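import Cfsg.Agent.Lib.StrongEmbedding.Swap
import Cfsg.Agent.Lib.InvChar.SolvableTwo
import Cfsg.Agent.Lib.InvChar.InvolutionCores
import Cfsg.Agent.Lib.EPPO21.Local
import Cfsg.Agent.Lib.SelfCentralSimple.Local
import Cfsg.Agent.Lib.Coprime.Action
import Cfsg.Agent.Lib.PCore.Basic

/-!
# Simple groups with five automorphism orbits: the common part of the mixed case

`Orders2P G p q`: the element orders are `1, 2, p, q, 2p` and automorphisms are transitive on the
elements of each order.  This file has the general lemmas used in both branches.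
-/

set_option autoImplicit false
set_option linter.style.haveILetI false
set_option linter.unusedSectionVars false

namespace CfsgLib.AutOrbits

open Subgroup

variable {G : Type*} [Group G]

theorem sq_of_two {t : G} (h : orderOf t = 2) : t * t = 1 := by
  rw [← pow_two, ← h]; exact pow_orderOf_eq_one t

theorem inv_of_two {t : G} (h : orderOf t = 2) : t⁻¹ = t :=
  inv_eq_of_mul_eq_one_right (sq_of_two h)

theorem ne_one_of_two {t : G} (h : orderOf t = 2) : t ≠ 1 := fun e => by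
  rw [e, orderOf_one] at h; omega

theorem two_of_sq {t : G} (h : t * t = 1) (h1 : t ≠ 1) : orderOf t = 2 :=
  orderOf_eq_prime (by rw [pow_two, h]) h1

theorem isPGroup_zpowers_of_pow {p : ℕ} {g : G} {k : ℕ} (h : g ^ p ^ k = 1) :
    IsPGroup p (zpowers g) := by
  rintro ⟨y, hy⟩
  obtain ⟨i, rfl⟩ := mem_zpowers_iff.1 hy
  refine ⟨k, Subtype.ext ?_⟩
  change (g ^ i) ^ p ^ k = 1
  rw [← zpow_natCast, ← zpow_mul, mul_comm, zpow_mul, zpow_natCast, h, one_zpow]

theorem exists_orderOf_of_dvd [Finite G] {g : G} {d : ℕ} (hd : d ∣ orderOf g) :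
    ∃ h : G, orderOf h = d := by
  refine ⟨g ^ (orderOf g / d), ?_⟩
  rw [orderOf_pow, Nat.gcd_eq_right (Nat.div_dvd_of_dvd hd),
    Nat.div_div_self hd (orderOf_pos g).ne']

/-- Counting by a map whose fibres are the cosets of a subgroup. -/
theorem index_eq_card_of_fibres {K : Type*} [Group K] (H : Subgroup K) {α : Type*} (f : K → α)
    (hs : Function.Surjective f) (hf : ∀ a b : K, f a = f b ↔ a⁻¹ * b ∈ H) :
    H.index = Nat.card α := by
  rw [Subgroup.index]
  refine Nat.card_congr (Equiv.ofBijective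
    (fun x : K ⧸ H => Quotient.liftOn' x f fun a b hab =>
      (hf a b).2 (QuotientGroup.leftRel_apply.1 hab)) ⟨?_, ?_⟩)
  · intro x y
    induction x using QuotientGroup.induction_on with
    | H a =>
      induction y using QuotientGroup.induction_on with
      | H b => exact fun e => QuotientGroup.eq.2 ((hf a b).1 e)
  · intro a
    obtain ⟨k, hk⟩ := hs a
    exact ⟨(k : K ⧸ H), hk⟩

theorem exists_conj_mem_sylow [Finite G] {p : ℕ} [Fact p.Prime] {H : Subgroup G} (T : Sylow p H)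
    {x : G} (hx : x ∈ H) {k : ℕ} (hk : x ^ p ^ k = 1) :
    ∃ m ∈ H, ∃ s : H, s ∈ (T : Subgroup H) ∧ m * x * m⁻¹ = s := by
  have hk' : (⟨x, hx⟩ : H) ^ p ^ k = 1 := Subtype.ext (by simpa using hk)
  obtain ⟨P, hP⟩ := (isPGroup_zpowers_of_pow hk').exists_le_sylow
  obtain ⟨m, hm⟩ := MulAction.exists_smul_eq H P T
  refine ⟨m, m.2, m * ⟨x, hx⟩ * m⁻¹, ?_, by simp⟩
  rw [← hm, Sylow.coe_subgroup_smul]
  exact Subgroup.smul_mem_pointwise_smul _ _ _ (hP (mem_zpowers _))

/-- In a group of order `2ᵃpᵇ` with abelian Sylow 2-subgroup `T`, `T O_p` is normal. -/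
theorem normal_sup_pCore {H : Type*} [Group H] [Finite H] {p : ℕ} (hp : p.Prime)
    (hpr : ∀ r : ℕ, r.Prime → r ∣ Nat.card H → r = 2 ∨ r = p) (T : Sylow 2 H)
    (hT : ∀ a ∈ (T : Subgroup H), ∀ b ∈ (T : Subgroup H), a * b = b * a) :
    ((T : Subgroup H) ⊔ Cfsg.pCore p H).Normal := by
  classical
  haveI : Fact p.Prime := ⟨hp⟩
  haveI : Fact (Nat.Prime 2) := ⟨Nat.prime_two⟩
  haveI : Group.IsSolvable H := EPPO21.isSolvable_of_le_two (by
    refine (Finset.card_le_card (t := ({2, p} : Finset ℕ)) fun r hr => ?_).trans Finset.card_le_two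
    simpa using hpr r (Nat.prime_of_mem_primeFactors hr) (Nat.dvd_of_mem_primeFactors hr))
  set O := Cfsg.pCore p H with hOdef
  haveI : O.Normal := Cfsg.pCore_normal p _
  set f := QuotientGroup.mk' O with hfdef
  set T' := T.mapSurjective (QuotientGroup.mk'_surjective O) with hT'def
  have hT'c : ((T' : Sylow 2 (H ⧸ O)) : Subgroup (H ⧸ O)) = (T : Subgroup H).map f :=
    Sylow.coe_mapSurjective _ _
  have hC : Cfsg.pPrimeCore 2 (H ⧸ O) = ⊥ := by
    rw [PCore.pPrimeCore_eq_bot_iff]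
    intro N hN hco
    refine le_bot_iff.1 ((PCore.le_pCore hN ?_).trans (PCore.pCore_quotient_pCore (p := p) (G := H)).le)
    refine IsPGroup.of_card (n := (Nat.card N).primeFactorsList.length)
      (Nat.eq_prime_pow_of_unique_prime_dvd Nat.card_pos.ne' fun {d} hd hdd => ?_)
    refine (hpr d hd ((hdd.trans N.card_subgroup_dvd_card).trans O.card_quotient_dvd_card)).resolve_left
      fun e => ?_
    exact Nat.prime_two.not_dvd_one (hco ▸ Nat.dvd_gcd (e ▸ hdd) dvd_rfl)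
  have h1 : (T' : Subgroup (H ⧸ O)) ≤ centralizer (Cfsg.pCore 2 (H ⧸ O) : Set (H ⧸ O)) := by
    intro a ha
    rw [mem_centralizer_iff]
    intro b hb
    have hb' : b ∈ (T' : Subgroup (H ⧸ O)) := PCore.pCore_le_sylow T' hb
    rw [hT'c] at ha hb'
    obtain ⟨a, ha', rfl⟩ := ha
    obtain ⟨b, hb'', rfl⟩ := hb'
    rw [← map_mul, ← map_mul, hT b hb'' a ha']
  have h2 : (T' : Subgroup (H ⧸ O)) = Cfsg.pCore 2 (H ⧸ O) :=
    le_antisymm (h1.trans (InvChar.centralizer_pCore_le hC)) (PCore.pCore_le_sylow T')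
  have h3 : ((T : Subgroup H).map f).Normal := by
    rw [← hT'c, h2]; exact Cfsg.pCore_normal 2 _
  have h4 := h3.comap f
  rwa [Subgroup.comap_map_eq, QuotientGroup.ker_mk'] at h4

/-- The `p`-elements of `T O_p` lie in `O_p`. -/
theorem mem_pCore_of_mem_sup {H : Type*} [Group H] {p : ℕ} (hp : p.Prime) (hp2 : p ≠ 2)
    {T : Subgroup H} (hT : ∀ a ∈ T, a * a = 1) {x : H} (hx : x ∈ T ⊔ Cfsg.pCore p H)
    (hxp : x ^ p = 1) : x ∈ Cfsg.pCore p H := by
  haveI : (Cfsg.pCore p H).Normal := Cfsg.pCore_normal p _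
  obtain ⟨t, ht, o, ho, rfl⟩ := mem_sup_of_normal_right.1 hx
  rw [← QuotientGroup.eq_one_iff (N := Cfsg.pCore p H)]
  have e : ((t * o : H) : H ⧸ Cfsg.pCore p H) = (t : H ⧸ Cfsg.pCore p H) := by
    rw [QuotientGroup.mk_mul, (QuotientGroup.eq_one_iff o).2 ho, mul_one]
  have h1 : ((t * o : H) : H ⧸ Cfsg.pCore p H) ^ p = 1 := by
    rw [← QuotientGroup.mk_pow, hxp, QuotientGroup.mk_one]
  have h2 : ((t * o : H) : H ⧸ Cfsg.pCore p H) ^ 2 = 1 := by
    rw [e, ← QuotientGroup.mk_pow, pow_two, hT t ht, QuotientGroup.mk_one]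
  have h3 := pow_gcd_eq_one.2 ⟨h1, h2⟩
  rwa [show Nat.gcd p 2 = 1 from (Nat.coprime_primes hp Nat.prime_two).2 hp2, pow_one] at h3

/-- All the 2-elements lie in `T O_p`. -/
theorem mem_sup_of_sq {H : Type*} [Group H] [Finite H] {p : ℕ} (T : Sylow 2 H)
    (hn : ((T : Subgroup H) ⊔ Cfsg.pCore p H).Normal) {u : H} (hu : u * u = 1) :
    u ∈ (T : Subgroup H) ⊔ Cfsg.pCore p H := by
  haveI : Fact (Nat.Prime 2) := ⟨Nat.prime_two⟩
  obtain ⟨P, hP⟩ := (isPGroup_zpowers_of_pow (p := 2) (g := u) (k := 1)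
    (by rw [pow_one, pow_two, hu])).exists_le_sylow
  obtain ⟨m, hm⟩ := MulAction.exists_smul_eq H P T
  have h1 : m * u * m⁻¹ ∈ (T : Subgroup H) ⊔ Cfsg.pCore p H := by
    refine mem_sup_left ?_
    rw [← hm, Sylow.coe_subgroup_smul]
    exact Subgroup.smul_mem_pointwise_smul _ _ _ (hP (mem_zpowers _))
  simpa [mul_assoc] using hn.conj_mem _ h1 m⁻¹

/-- The element orders are `1, 2, p, q, 2p` and automorphisms are transitive on each order. -/
structure Orders2P (G : Type*) [Group G] (p q : ℕ) : Prop where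
  simple : IsSimpleGroup G
  nonComm : ¬ IsMulCommutative G
  prime_p : p.Prime
  prime_q : q.Prime
  p_ne_two : p ≠ 2
  q_ne_two : q ≠ 2
  p_ne_q : p ≠ q
  ord : ∀ g : G, orderOf g = 1 ∨ orderOf g = 2 ∨ orderOf g = p ∨ orderOf g = q ∨ orderOf g = 2 * p
  mixed : ∃ g : G, orderOf g = 2 * p
  trans : ∀ a b : G, orderOf a = orderOf b → ∃ φ : MulAut G, φ a = b

variable [Finite G] {p q : ℕ}

theorem Orders2P.dvd_two_p (h : Orders2P G p q) {g : G} (hg : orderOf g ≠ q) :
    orderOf g ∣ 2 * p := by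
  rcases h.ord g with e | e | e | e | e
  exacts [e ▸ one_dvd _, e ▸ dvd_mul_right _ _, e ▸ dvd_mul_left _ _, absurd e hg, e.dvd]

theorem Orders2P.not_q_dvd (h : Orders2P G p q) : ¬ q ∣ 2 * p := by
  intro hd
  rcases h.prime_q.dvd_mul.1 hd with e | e
  · exact h.q_ne_two ((Nat.prime_dvd_prime_iff_eq h.prime_q Nat.prime_two).1 e)
  · exact h.p_ne_q ((Nat.prime_dvd_prime_iff_eq h.prime_q h.prime_p).1 e).symm

/-- Nothing of order prime to `q` commutes with an element of order `q`. -/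
theorem Orders2P.eq_one_of_commute (h : Orders2P G p q) {x c : G} (hx : orderOf x = q)
    (hc : Commute c x) (hcq : orderOf c ≠ q) : c = 1 := by
  by_contra hne
  have hd := h.dvd_two_p hcq
  have hco : (orderOf c).Coprime q :=
    ((h.prime_q.coprime_iff_not_dvd).2 fun e => h.not_q_dvd (e.trans hd)).symm
  have hord : orderOf (c * x) = orderOf c * q := by
    rw [hc.orderOf_mul_eq_mul_orderOf_of_coprime (hx.symm ▸ hco), hx]
  have hne1 : orderOf c ≠ 1 := fun e => hne (orderOf_eq_one_iff.1 e)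
  by_cases hq : orderOf (c * x) = q
  · rw [hord] at hq
    have := h.prime_q.pos
    exact hne1 (Nat.eq_of_mul_eq_mul_right this (by rw [hq, one_mul]))
  · exact h.not_q_dvd ((dvd_mul_left q _).trans (hord ▸ h.dvd_two_p hq))

theorem Orders2P.pow_q_of_commute (h : Orders2P G p q) {x c : G} (hx : orderOf x = q)
    (hc : Commute c x) : c ^ q = 1 := by
  by_cases hcq : orderOf c = q
  · rw [← hcq]; exact pow_orderOf_eq_one c
  · rw [h.eq_one_of_commute hx hc hcq, one_pow]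

theorem Orders2P.not_q_of_two (h : Orders2P G p q) {t c : G} (ht : orderOf t = 2)
    (hc : Commute c t) : orderOf c ≠ q := fun e =>
  ne_one_of_two ht (h.eq_one_of_commute e hc.symm (ht ▸ h.q_ne_two.symm))

theorem Orders2P.not_q_of_p (h : Orders2P G p q) {y c : G} (hy : orderOf y = p)
    (hc : Commute c y) : orderOf c ≠ q := fun e => by
  have := h.eq_one_of_commute e hc.symm (hy ▸ h.p_ne_q)
  rw [this, orderOf_one] at hy
  exact h.prime_p.ne_one hy.symm

theorem Orders2P.sq_eq_one (h : Orders2P G p q) {g : G} {k : ℕ} (hk : g ^ 2 ^ k = 1) :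
    g * g = 1 := by
  obtain ⟨i, -, hi⟩ := (Nat.dvd_prime_pow Nat.prime_two).1 (orderOf_dvd_of_pow_eq_one hk)
  rw [← pow_two, ← orderOf_dvd_iff_pow_eq_one]
  have hcop : (orderOf g).Coprime p ∧ (orderOf g).Coprime q := by
    rw [hi]
    exact ⟨((Nat.coprime_primes Nat.prime_two h.prime_p).2 h.p_ne_two.symm).pow_left i,
      ((Nat.coprime_primes Nat.prime_two h.prime_q).2 h.q_ne_two.symm).pow_left i⟩
  have hgq : orderOf g ≠ q := fun e => h.prime_q.ne_one ((Nat.coprime_self q).1 (e ▸ hcop.2))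
  exact hcop.1.dvd_of_dvd_mul_right (h.dvd_two_p hgq)

theorem Orders2P.sq_of_mem (h : Orders2P G p q) {P : Subgroup G} (hP : IsPGroup 2 P) {a : G}
    (ha : a ∈ P) : a * a = 1 := by
  obtain ⟨k, hk⟩ := hP ⟨a, ha⟩
  exact h.sq_eq_one (k := k) (by simpa using congrArg Subtype.val hk)

theorem Orders2P.comm_of_two (h : Orders2P G p q) {P : Subgroup G} (hP : IsPGroup 2 P) {a b : G}
    (ha : a ∈ P) (hb : b ∈ P) : Commute a b := by
  have h1 := inv_eq_of_mul_eq_one_right (h.sq_of_mem hP ha)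
  have h2 := inv_eq_of_mul_eq_one_right (h.sq_of_mem hP hb)
  have h3 := inv_eq_of_mul_eq_one_right (h.sq_of_mem hP (P.mul_mem ha hb))
  calc a * b = (a * b)⁻¹ := h3.symm
    _ = b⁻¹ * a⁻¹ := mul_inv_rev a b
    _ = b * a := by rw [h1, h2]

theorem Orders2P.pow_p_of_pow (h : Orders2P G p q) {g : G} {k : ℕ} (hk : g ^ p ^ k = 1) :
    g ^ p = 1 := by
  obtain ⟨i, -, hi⟩ := (Nat.dvd_prime_pow h.prime_p).1 (orderOf_dvd_of_pow_eq_one hk)
  rw [← orderOf_dvd_iff_pow_eq_one]
  have hcop : (orderOf g).Coprime 2 ∧ (orderOf g).Coprime q := by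
    rw [hi]
    exact ⟨((Nat.coprime_primes h.prime_p Nat.prime_two).2 h.p_ne_two).pow_left i,
      ((Nat.coprime_primes h.prime_p h.prime_q).2 h.p_ne_q).pow_left i⟩
  have hgq : orderOf g ≠ q := fun e => h.prime_q.ne_one ((Nat.coprime_self q).1 (e ▸ hcop.2))
  exact hcop.1.dvd_of_dvd_mul_left (h.dvd_two_p hgq)

theorem Orders2P.pow_p_of_mem (h : Orders2P G p q) {P : Subgroup G} (hP : IsPGroup p P) {a : G}
    (ha : a ∈ P) : a ^ p = 1 := by
  obtain ⟨k, hk⟩ := hP ⟨a, ha⟩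
  exact h.pow_p_of_pow (k := k) (by simpa using congrArg Subtype.val hk)

theorem Orders2P.pow_p_of_odd (h : Orders2P G p q) {g : G} (ho : Odd (orderOf g))
    (hq : orderOf g ≠ q) : g ^ p = 1 :=
  orderOf_dvd_iff_pow_eq_one.1 ((Nat.coprime_two_right.2 ho).dvd_of_dvd_mul_left (h.dvd_two_p hq))

theorem Orders2P.orderOf_p (h : Orders2P G p q) {g : G} (hg : g ^ p = 1) (h1 : g ≠ 1) :
    orderOf g = p :=
  haveI : Fact p.Prime := ⟨h.prime_p⟩
  orderOf_eq_prime hg h1

theorem Orders2P.odd_of_pow_p (h : Orders2P G p q) {g : G} (hg : g ^ p = 1) : Odd (orderOf g) :=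
  (h.prime_p.odd_of_ne_two h.p_ne_two).of_dvd_nat (orderOf_dvd_of_pow_eq_one hg)

theorem Orders2P.not_q_of_pow_p (h : Orders2P G p q) {g : G} (hg : g ^ p = 1) : orderOf g ≠ q :=
  fun e => h.not_q_dvd (dvd_mul_of_dvd_right (e ▸ orderOf_dvd_of_pow_eq_one hg) 2)

/-- The prime divisors of a subgroup without elements of order `q`. -/
theorem Orders2P.primes (h : Orders2P G p q) {H : Subgroup G} (hH : ∀ x ∈ H, orderOf x ≠ q)
    (r : ℕ) (hr : r.Prime) (hd : r ∣ Nat.card H) : r = 2 ∨ r = p := by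
  haveI : Fact r.Prime := ⟨hr⟩
  obtain ⟨x, hx⟩ := exists_prime_orderOf_dvd_card' (G := H) r hd
  have h1 := h.dvd_two_p (hH x x.2)
  rw [Subgroup.orderOf_coe, hx] at h1
  rcases hr.dvd_mul.1 h1 with e | e
  · exact Or.inl ((Nat.prime_dvd_prime_iff_eq hr Nat.prime_two).1 e)
  · exact Or.inr ((Nat.prime_dvd_prime_iff_eq hr h.prime_p).1 e)

/-- A subgroup of odd order without elements of order `q` is a `p`-group. -/
theorem Orders2P.isPGroup_of_odd (h : Orders2P G p q) {H : Subgroup G}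
    (hH : ∀ x ∈ H, orderOf x ≠ q) (ho : Odd (Nat.card H)) : IsPGroup p H := fun x =>
  ⟨1, Subtype.ext (by
    rw [pow_one]
    simpa using h.pow_p_of_odd (ho.of_dvd_nat (by
      rw [Subgroup.orderOf_coe]; exact orderOf_dvd_natCard x)) (hH x x.2))⟩

theorem Orders2P.two_dvd (h : Orders2P G p q) : 2 ∣ Nat.card G := by
  obtain ⟨g, hg⟩ := h.mixed
  exact (dvd_mul_right 2 p).trans (hg ▸ orderOf_dvd_natCard g)

theorem Orders2P.exists_two_p (h : Orders2P G p q) :
    ∃ t y : G, orderOf t = 2 ∧ orderOf y = p ∧ Commute y t := by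
  obtain ⟨g, hg⟩ := h.mixed
  refine ⟨g ^ p, g ^ 2, ?_, ?_, Commute.pow_pow_self g 2 p⟩
  · rw [orderOf_pow, hg, Nat.gcd_eq_right (dvd_mul_left p 2), Nat.mul_div_cancel _ h.prime_p.pos]
  · rw [orderOf_pow, hg, Nat.gcd_eq_right (dvd_mul_right 2 p), Nat.mul_div_cancel_left _ two_pos]

theorem Orders2P.exists_inv_commute (h : Orders2P G p q) {y : G} (hy : orderOf y = p) :
    ∃ t : G, orderOf t = 2 ∧ Commute y t := by
  obtain ⟨t, y₀, ht, hy₀, hc⟩ := h.exists_two_p
  obtain ⟨φ, hφ⟩ := h.trans y₀ y (hy₀.trans hy.symm)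
  exact ⟨φ t, (φ.orderOf_eq t).trans ht, hφ ▸ hc.map φ.toMonoidHom⟩

theorem Orders2P.exists_p_commute (h : Orders2P G p q) {t : G} (ht : orderOf t = 2) :
    ∃ y : G, orderOf y = p ∧ Commute y t := by
  obtain ⟨t₀, y, ht₀, hy, hc⟩ := h.exists_two_p
  obtain ⟨φ, hφ⟩ := h.trans t₀ t (ht₀.trans ht.symm)
  exact ⟨φ y, (φ.orderOf_eq y).trans hy, hφ ▸ hc.map φ.toMonoidHom⟩

theorem Orders2P.comm_sylow (h : Orders2P G p q) (S : Sylow 2 G) {a b : G}
    (ha : a ∈ (S : Subgroup G)) (hb : b ∈ (S : Subgroup G)) : Commute a b :=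
  h.comm_of_two S.2 ha hb

theorem Orders2P.le_centralizer_sylow (h : Orders2P G p q) (S : Sylow 2 G) {t : G}
    (ht : t ∈ (S : Subgroup G)) : (S : Subgroup G) ≤ centralizer ({t} : Set G) := fun a ha =>
  mem_centralizer_singleton_iff.2 (h.comm_sylow S ha ht).eq

theorem Orders2P.four_le (h : Orders2P G p q) (S : Sylow 2 G) :
    4 ≤ Nat.card (S : Subgroup G) := by
  haveI := h.simple
  haveI : Fact (Nat.Prime 2) := ⟨Nat.prime_two⟩
  obtain ⟨n, hn⟩ := S.2.exists_card_eq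
  rcases Nat.lt_or_ge n 2 with hlt | hge
  · exfalso
    refine SelfCentralSimple.not_isCyclic_sylow h.nonComm
      (SelfCentralSimple.minFac_eq_two h.nonComm) S ?_
    interval_cases n
    · haveI : Subsingleton (S : Subgroup G) :=
        (Nat.card_eq_one_iff_unique.1 (by simpa using hn)).1
      exact isCyclic_of_subsingleton
    · exact isCyclic_of_prime_card (p := 2) (by simpa using hn)
  · rw [hn]
    calc 4 = 2 ^ 2 := by norm_num
      _ ≤ 2 ^ n := Nat.pow_le_pow_right two_pos hge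

theorem Orders2P.prime_cases (h : Orders2P G p q) {r : ℕ} (hr : r.Prime) (hd : r ∣ Nat.card G) :
    r = 2 ∨ r = p ∨ r = q := by
  haveI : Fact r.Prime := ⟨hr⟩
  obtain ⟨x, hx⟩ := exists_prime_orderOf_dvd_card' (G := G) r hd
  by_cases hxq : orderOf x = q
  · exact Or.inr (Or.inr (hx ▸ hxq))
  · have h1 := h.dvd_two_p hxq
    rw [hx] at h1
    rcases hr.dvd_mul.1 h1 with e | e
    · exact Or.inl ((Nat.prime_dvd_prime_iff_eq hr Nat.prime_two).1 e)
    · exact Or.inr (Or.inl ((Nat.prime_dvd_prime_iff_eq hr h.prime_p).1 e))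

theorem Orders2P.exists_pow_q (h : Orders2P G p q) {n : ℕ} (hn : n ∣ Nat.card G) (h2 : ¬ 2 ∣ n)
    (hp : ¬ p ∣ n) : ∃ j, n = q ^ j := by
  have hn0 : n ≠ 0 := fun e => h2 (e ▸ dvd_zero 2)
  refine ⟨_, Nat.eq_prime_pow_of_unique_prime_dvd hn0 fun {d} hd hdd => ?_⟩
  rcases h.prime_cases hd (hdd.trans hn) with rfl | rfl | rfl
  exacts [absurd hdd h2, absurd hdd hp, rfl]

theorem Orders2P.not_solvable (h : Orders2P G p q) : ¬ Group.IsSolvable G := fun hs =>
  haveI := h.simple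
  h.nonComm ⟨⟨IsSimpleGroup.comm_iff_isSolvable.2 hs⟩⟩

theorem Orders2P.exists_q (h : Orders2P G p q) : ∃ g : G, orderOf g = q := by
  by_contra! hall
  refine h.not_solvable (EPPO21.isSolvable_of_le_two ?_)
  refine (Finset.card_le_card (t := ({2, p} : Finset ℕ)) fun r hr => ?_).trans Finset.card_le_two
  have hd := Nat.dvd_of_mem_primeFactors hr
  rw [← Subgroup.card_top] at hd
  simpa using h.primes (H := ⊤) (fun x _ => hall x) r (Nat.prime_of_mem_primeFactors hr) hd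

/-- An involution inverting an element of order `p` normalises its centraliser. -/
theorem conj_commute_of_inverts {u y c : G} (hy : u * y * u⁻¹ = y⁻¹) (hc : Commute c y) :
    Commute (u * c * u⁻¹) y := by
  have h1 := (hc.map (MulAut.conj u).toMonoidHom).inv_right
  simp only [MulEquiv.coe_toMonoidHom, MulAut.conj_apply] at h1
  rwa [hy, inv_inv] at h1

theorem Orders2P.sylow_subgroupOf (S : Sylow 2 G) {H : Subgroup G} (hS : (S : Subgroup G) ≤ H) :
    ∃ T : Sylow 2 H, (T : Subgroup H) = (S : Subgroup G).subgroupOf H :=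
  ⟨S.subtype hS, S.coe_subtype hS⟩

/-- For a subgroup `H` without elements of order `q`, the product of a Sylow 2-subgroup and `O_p(H)`
is normal. -/
theorem Orders2P.normal_sup (h : Orders2P G p q) {H : Subgroup G}
    (hH : ∀ x ∈ H, orderOf x ≠ q) (T : Sylow 2 H) :
    ((T : Subgroup H) ⊔ Cfsg.pCore p H).Normal :=
  normal_sup_pCore h.prime_p (h.primes hH) T fun a ha b hb =>
    Subtype.ext (h.comm_of_two (T.2.map H.subtype) ⟨a, ha, rfl⟩ ⟨b, hb, rfl⟩).eq

section StronglyEmbedded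

/-- A criterion for strong embedding when the Sylow 2-subgroups are abelian. -/
theorem isStronglyEmbedded_of {M : Subgroup G} (hne : M ≠ ⊤) (S : Sylow 2 G)
    (hS : ∀ a ∈ (S : Subgroup G), ∀ b ∈ (S : Subgroup G), Commute a b)
    (h2 : 2 ∣ Nat.card G)
    (hC : ∀ t ∈ (S : Subgroup G), orderOf t = 2 → centralizer ({t} : Set G) ≤ M)
    (hN : normalizer ((S : Subgroup G) : Set G) ≤ M) : Cfsg.IsStronglyEmbedded M := by
  haveI : Fact (Nat.Prime 2) := ⟨Nat.prime_two⟩
  have hSM : (S : Subgroup G) ≤ M := Subgroup.le_normalizer.trans hN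
  refine (Involutions.isStronglyEmbedded_iff).2 ⟨hne, even_iff_two_dvd.2
    ((S.dvd_card_of_dvd_card h2).trans (Subgroup.card_dvd_of_le hSM)), ?_⟩
  intro g hg t htM ht htg
  obtain ⟨T, hT⟩ := Orders2P.sylow_subgroupOf S hSM
  obtain ⟨m, hm, s, hs, hms⟩ := exists_conj_mem_sylow T htM (k := 1) (by rw [pow_one, pow_two, sq_of_two ht])
  obtain ⟨n, hn, s', hs', hns⟩ := exists_conj_mem_sylow T htg (k := 1) (by
    rw [pow_one, pow_two, show g⁻¹ * t * g * (g⁻¹ * t * g) = g⁻¹ * (t * t) * g by group, sq_of_two ht]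
    group)
  rw [hT, mem_subgroupOf] at hs hs'
  have hso : orderOf (s : G) = 2 := by rw [← hms, Involutions.orderOf_conj_eq, ht]
  set k := m * g * n⁻¹ with hk
  have hks : k * (s' : G) * k⁻¹ = s := by rw [← hns, ← hms, hk]; group
  have h2' : ((k • S : Sylow 2 G) : Subgroup G) ≤ centralizer ({(s : G)} : Set G) := by
    intro x hx
    rw [Sylow.coe_subgroup_smul, mem_pointwise_smul_iff_inv_smul_mem] at hx
    have hx' : k⁻¹ * x * k ∈ (S : Subgroup G) := by simpa using hx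
    refine mem_centralizer_singleton_iff.2 ?_
    have h3 := (hS _ hx' _ hs').map (MulAut.conj k).toMonoidHom
    simp only [MulEquiv.coe_toMonoidHom, MulAut.conj_apply] at h3
    rw [hks, show k * (k⁻¹ * x * k) * k⁻¹ = x by group] at h3
    exact h3.eq
  have h1' : (S : Subgroup G) ≤ centralizer ({(s : G)} : Set G) := fun a ha =>
    mem_centralizer_singleton_iff.2 (hS a ha _ hs).eq
  obtain ⟨c, hc⟩ := MulAction.exists_smul_eq (centralizer ({(s : G)} : Set G))
    (S.subtype h1') ((k • S).subtype h2')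
  rw [Sylow.smul_subtype] at hc
  have hc' : ((c : G) • S : Sylow 2 G) = k • S := Sylow.subtype_injective hc
  have hN' : (c : G)⁻¹ * k ∈ normalizer ((S : Subgroup G) : Set G) := by
    have h3 : ((c : G)⁻¹ * k) • S = S := by rw [mul_smul, ← hc', inv_smul_smul]
    have h4 := Sylow.smul_eq_iff_mem_normalizer.1 h3
    exact h4
  have hkM : k ∈ M := by
    have := M.mul_mem (hC _ hs hso c.2) (hN hN')
    rwa [mul_inv_cancel_left] at this
  refine hg ?_
  have := M.mul_mem (M.mul_mem (M.inv_mem hm) hkM) hn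
  rwa [hk, show m⁻¹ * (m * g * n⁻¹) * n = g by group] at this

variable {M : Subgroup G}

theorem conj_mem_inter {i : G} (hi : orderOf i = 2) {d : G}
    (hd : d ∈ M ⊓ M.map (MulAut.conj i).toMonoidHom) :
    i * d * i⁻¹ ∈ M ⊓ M.map (MulAut.conj i).toMonoidHom := by
  have h1 := Involutions.mem_map_conj_iff.1 hd.2
  refine ⟨?_, Involutions.mem_map_conj_iff.2 ?_⟩
  · rwa [inv_of_two hi] at h1 ⊢
  · rw [show i⁻¹ * (i * d * i⁻¹) * i = d by group]; exact hd.1

/-- The elements of `M ∩ Mⁱ` inverted by `i` correspond to the involutions of `M`. -/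
theorem card_inverted (hM : Cfsg.IsStronglyEmbedded M) {i : G} (hi : orderOf i = 2) (hiM : i ∉ M) :
    Nat.card {d : G // d ∈ M ⊓ M.map (MulAut.conj i).toMonoidHom ∧ i * d * i⁻¹ = d⁻¹} =
      Nat.card {t : G // orderOf t = 2 ∧ t ∈ M} := by
  rw [← StrongEmbedding.card_swapping hM (x := ((1 : G) : G ⧸ M)) (y := ((i : G) : G ⧸ M)) (fun e => hiM
    (by simpa using QuotientGroup.eq.1 e))]
  have hii := sq_of_two hi
  have hinv := inv_of_two hi
  have hio : i • ((1 : G) : G ⧸ M) = ((i : G) : G ⧸ M) := by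
    rw [MulAction.Quotient.smul_coe, smul_eq_mul, mul_one]
  have hoi : i • ((i : G) : G ⧸ M) = ((1 : G) : G ⧸ M) := by
    rw [MulAction.Quotient.smul_coe, smul_eq_mul, hii]
  refine Nat.card_congr
    { toFun := fun d => ⟨i * d.1, ?_, ?_⟩
      invFun := fun r => ⟨i * r.1, ?_, ?_⟩
      left_inv := fun d => Subtype.ext (by simp [← mul_assoc, hii])
      right_inv := fun r => Subtype.ext (by simp [← mul_assoc, hii]) }
  · refine two_of_sq ?_ fun e => hiM ?_
    · rw [show i * d.1 * (i * d.1) = i * d.1 * i * d.1 by group]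
      have h := d.2.2
      simp only [hinv] at h
      rw [h, inv_mul_cancel]
    · rw [eq_inv_of_mul_eq_one_left e]; exact M.inv_mem d.2.1.1
  · rw [mul_smul, (StrongEmbedding.mem_inf_map_conj_iff.1 d.2.1).1, hio]
  · refine StrongEmbedding.mem_inf_map_conj_iff.2 ⟨?_, ?_⟩
    · rw [mul_smul, r.2.2, hoi]
    · rw [mul_smul]
      obtain ⟨r, hr2, hry⟩ := r
      show i • r • ((i : G) : G ⧸ M) = ((i : G) : G ⧸ M)
      rw [show r • ((i : G) : G ⧸ M) = ((1 : G) : G ⧸ M) by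
        rw [← hry, StrongEmbedding.smul_self_of_involution hr2], hio]
  · have hr := inv_of_two r.2.1
    rw [mul_inv_rev, hr, hinv, ← mul_assoc, hii, one_mul]

/-- The number of the inverted elements of an invariant subgroup of odd order. -/
theorem relIndex_centralizer_eq {D : Subgroup G} (hD : Odd (Nat.card D)) {i : G} (hi : orderOf i = 2)
    (hn : ∀ d ∈ D, i * d * i⁻¹ ∈ D) :
    (centralizer ({i} : Set G)).relIndex D = Nat.card {d : G // d ∈ D ∧ i * d * i⁻¹ = d⁻¹} := by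
  have hii := sq_of_two hi
  have hinv := inv_of_two hi
  refine index_eq_card_of_fibres _ (fun d : D => ⟨(d : G) * (i * (d : G)⁻¹ * i⁻¹), ?_, ?_⟩) ?_ ?_
  · exact D.mul_mem d.2 (hn _ (D.inv_mem d.2))
  · rw [hinv, mul_inv_rev, mul_inv_rev, mul_inv_rev, inv_inv, hinv]
    simp only [mul_assoc, hii, mul_one]
  · rintro ⟨j, hjD, hji⟩
    obtain ⟨m, hm⟩ : Odd (orderOf j) :=
      hD.of_dvd_nat (by rw [← Subgroup.orderOf_mk j hjD]; exact orderOf_dvd_natCard _)
    refine ⟨⟨j ^ (m + 1), D.pow_mem hjD _⟩, Subtype.ext ?_⟩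
    show j ^ (m + 1) * (i * (j ^ (m + 1))⁻¹ * i⁻¹) = j
    rw [← inv_pow, show i * j⁻¹ ^ (m + 1) * i⁻¹ = (i * j⁻¹ * i⁻¹) ^ (m + 1) from conj_pow.symm,
      show i * j⁻¹ * i⁻¹ = j by
        rw [show i * j⁻¹ * i⁻¹ = (i * j * i⁻¹)⁻¹ by group, hji, inv_inv],
      ← pow_add, show m + 1 + (m + 1) = orderOf j + 1 by omega, pow_succ, pow_orderOf_eq_one, one_mul]
  · rintro ⟨a, ha⟩ ⟨b, hb⟩
    rw [mem_subgroupOf, mem_centralizer_singleton_iff, Subtype.mk.injEq]
    show a * (i * a⁻¹ * i⁻¹) = b * (i * b⁻¹ * i⁻¹) ↔ a⁻¹ * b * i = i * (a⁻¹ * b)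
    constructor
    · intro e
      calc a⁻¹ * b * i = a⁻¹ * (b * (i * b⁻¹ * i⁻¹)) * i * b := by group
        _ = a⁻¹ * (a * (i * a⁻¹ * i⁻¹)) * i * b := by rw [e]
        _ = i * (a⁻¹ * b) := by group
    · intro e
      calc a * (i * a⁻¹ * i⁻¹) = a * (i * (a⁻¹ * b)) * b⁻¹ * i⁻¹ := by group
        _ = a * (a⁻¹ * b * i) * b⁻¹ * i⁻¹ := by rw [e]
        _ = b * (i * b⁻¹ * i⁻¹) := by group

/-- The index of the centraliser of an involution. -/
theorem relIndex_centralizer_involution (hM : Cfsg.IsStronglyEmbedded M) {t : G} (htM : t ∈ M)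
    (ht : orderOf t = 2) :
    (centralizer ({t} : Set G)).relIndex M = Nat.card {s : G // orderOf s = 2 ∧ s ∈ M} := by
  obtain ⟨u, hu, huM⟩ := StrongEmbedding.exists_involution_notMem hM
  have hxy : ((1 : G) : G ⧸ M) ≠ ((u : G) : G ⧸ M) := fun e => huM (by simpa using QuotientGroup.eq.1 e)
  refine index_eq_card_of_fibres _ (fun m : M => ⟨(m : G) * t * (m : G)⁻¹,
    by rw [Involutions.orderOf_conj_eq, ht], M.mul_mem (M.mul_mem m.2 htM) (M.inv_mem m.2)⟩) ?_ ?_
  · rintro ⟨s, hs, hsM⟩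
    obtain ⟨d, hdx, -, hd⟩ := StrongEmbedding.two_point_transitive hM hxy ht
      (StrongEmbedding.mem_iff_smul_base.1 htM) hs (StrongEmbedding.mem_iff_smul_base.1 hsM)
    exact ⟨⟨d, StrongEmbedding.mem_iff_smul_base.2 hdx⟩, Subtype.ext hd⟩
  · rintro ⟨a, ha⟩ ⟨b, hb⟩
    rw [mem_subgroupOf, mem_centralizer_singleton_iff, Subtype.mk.injEq]
    show a * t * a⁻¹ = b * t * b⁻¹ ↔ a⁻¹ * b * t = t * (a⁻¹ * b)
    constructor
    · intro e
      calc a⁻¹ * b * t = a⁻¹ * (b * t * b⁻¹) * b := by group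
        _ = a⁻¹ * (a * t * a⁻¹) * b := by rw [e]
        _ = t * (a⁻¹ * b) := by group
    · intro e
      calc a * t * a⁻¹ = a * (t * (a⁻¹ * b)) * b⁻¹ := by group
        _ = a * (a⁻¹ * b * t) * b⁻¹ := by rw [e]
        _ = b * t * b⁻¹ := by group

end StronglyEmbedded

end CfsgLib.AutOrbits
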