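import Cfsg.Agent.Lib.AutOrbits.Real
import Cfsg.Agent.S0217

/-!
# The real mixed case with a Sylow 2-subgroup of order at least eight

The signalizer functor theorem gives an `S`-invariant `p`-subgroup `W`; its normaliser is strongly
embedded and `W` is an abelian Sylow `p`-subgroup containing the centralised `p`-parts with index one,
so `S` centralises `W`, which is impossible.
-/

set_option autoImplicit false
set_option linter.style.haveILetI false
set_option linter.unusedSectionVars false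

namespace CfsgLib.AutOrbits

open Subgroup

variable {G : Type*} [Group G] [Finite G] {p q : ℕ}

/-- The elements fixing or inverting `z`. -/
def extCent (z : G) : Subgroup G where
  carrier := {g | g * z * g⁻¹ = z ∨ g * z * g⁻¹ = z⁻¹}
  one_mem' := Or.inl (by group)
  mul_mem' := by
    intro a b ha hb
    have e : a * b * z * (a * b)⁻¹ = a * (b * z * b⁻¹) * a⁻¹ := by group
    rcases hb with hb | hb <;> rcases ha with ha | ha <;>
      simp only [Set.mem_setOf_eq, e, hb, ha]
    · exact Or.inl trivial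
    · exact Or.inr trivial
    · exact Or.inr (by rw [show a * z⁻¹ * a⁻¹ = (a * z * a⁻¹)⁻¹ by group, ha])
    · exact Or.inl (by rw [show a * z⁻¹ * a⁻¹ = (a * z * a⁻¹)⁻¹ by group, ha, inv_inv])
  inv_mem' := by
    intro a ha
    rcases ha with ha | ha
    · left
      conv_lhs => rw [← ha]
      group
    · right
      have : a⁻¹ * (a * z * a⁻¹)⁻¹ * a = z⁻¹ := by group
      rw [ha, inv_inv] at this
      simpa using this

theorem mem_extCent {z g : G} : g ∈ extCent z ↔ g * z * g⁻¹ = z ∨ g * z * g⁻¹ = z⁻¹ := Iff.rfl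

/-- No element of order `q` fixes or inverts an element of order `p`. -/
theorem Orders2P.not_q_of_mem_extCent (h : Orders2P G p q) {z : G} (hz : orderOf z = p) {x : G}
    (hx : x ∈ extCent z) : orderOf x ≠ q := by
  intro hxq
  obtain ⟨l, hl⟩ := h.prime_q.odd_of_ne_two h.q_ne_two
  have hc2 : Commute (x ^ 2) z := by
    refine mul_inv_eq_iff_eq_mul.1 ?_
    rw [show x ^ 2 * z * (x ^ 2)⁻¹ = x * (x * z * x⁻¹) * x⁻¹ by rw [pow_two]; group]
    rcases hx with e | e <;> rw [e]
    · exact e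
    · rw [show x * z⁻¹ * x⁻¹ = (x * z * x⁻¹)⁻¹ by group, e, inv_inv]
  refine h.not_q_of_p hz ?_ hxq
  have hxp : (x ^ 2) ^ (l + 1) = x := by
    rw [← pow_mul, show 2 * (l + 1) = orderOf x + 1 by omega, pow_succ, pow_orderOf_eq_one, one_mul]
  exact hxp ▸ hc2.pow_left _

/-- The case of a Sylow 2-subgroup of order at least eight is impossible. -/
theorem Orders2P.false_of_real_big (h : Orders2P G p q) (hr : Real G p) (S : Sylow 2 G)
    (h8 : 8 ≤ Nat.card (S : Subgroup G)) : False := by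
  classical
  haveI := h.simple
  haveI : Fact p.Prime := ⟨h.prime_p⟩
  haveI : Fact (Nat.Prime 2) := ⟨Nat.prime_two⟩
  have hsq : ∀ a ∈ (S : Subgroup G), a * a = 1 := fun a ha => h.sq_of_mem S.2 ha
  have hinv2 : ∀ a ∈ (S : Subgroup G), a ≠ 1 → orderOf a = 2 := fun a ha h1 => two_of_sq (hsq a ha) h1
  obtain ⟨hW2, hWc⟩ := Cfsg.Agent.S0217.result (p := 2) (S : Subgroup G)
    (fun a ha b hb => (h.comm_sylow S ha hb).eq) (fun a ha => by rw [pow_two]; exact hsq a ha)
    (by norm_num; exact h8) (pPart p) (fun a _ _ => pPart_le p a)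
    (fun a ha ha1 hd => by
      obtain ⟨i, hi⟩ := (isPGroup_pPart (G := G) p a).exists_card_eq
      rw [hi] at hd
      exact h.p_ne_two ((Nat.prime_dvd_prime_iff_eq Nat.prime_two h.prime_p).1
        (Nat.prime_two.dvd_of_dvd_pow hd)).symm)
    (fun a ha ha1 b hb x hx => h.conj_mem_pPart hr (hinv2 a ha ha1) (h.comm_sylow S hb ha) hx)
    (fun a _ _ => haveI := (isPGroup_pPart (G := G) p a).isNilpotent; inferInstance)
    (fun a ha ha1 b hb hb1 x hx => (h.mem_pPart hr (hinv2 b hb hb1)).2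
      ⟨mem_centralizer_singleton_iff.1 hx.2, ((h.mem_pPart hr (hinv2 a ha ha1)).1 hx.1).2⟩)
  set W := ⨆ a : {a : G // a ∈ (S : Subgroup G) ∧ a ≠ 1}, pPart p (a : G) with hW
  have hθW : ∀ a ∈ (S : Subgroup G), a ≠ 1 → pPart p a ≤ W := fun a ha ha1 =>
    le_iSup (fun a : {a : G // a ∈ (S : Subgroup G) ∧ a ≠ 1} => pPart p (a : G)) ⟨a, ha, ha1⟩
  have hconjW : ∀ n ∈ normalizer ((S : Subgroup G) : Set G), ∀ x ∈ W, n * x * n⁻¹ ∈ W := by
    intro n hn x hx
    have hle : W ≤ W.comap (MulAut.conj n).toMonoidHom := by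
      refine iSup_le fun a y hy => ?_
      rw [mem_comap, MulEquiv.coe_toMonoidHom, MulAut.conj_apply]
      exact hθW _ (Coprime.mem_normalizer_conj hn a.2.1) (by rw [Ne, conj_eq_one_iff]; exact a.2.2)
        (h.mem_pPart_conj hr (hinv2 a a.2.1 a.2.2) hy)
    simpa using hle hx
  have hSW : (S : Subgroup G) ≤ normalizer (W : Set G) := fun s hs =>
    Coprime.mem_normalizer_of_forall_conj (hconjW s (Subgroup.le_normalizer hs))
  have hWodd : Odd (Nat.card W) := Nat.not_even_iff_odd.1 fun e => hW2 (even_iff_two_dvd.1 e)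
  have hWp : IsPGroup p W := h.isPGroup_of_invariant S hWodd hSW
  have hmax : ∀ X : Subgroup G, Odd (Nat.card X) → (S : Subgroup G) ≤ normalizer (X : Set G) →
      X ≤ W := fun X hX hn => h.le_of_fixed S hX hn fun r hr' hr2 x hx hc =>
    hθW r hr' (ne_one_of_two hr2)
      ((h.mem_pPart hr hr2).2 ⟨hc, h.pow_p_of_mem (h.isPGroup_of_invariant S hX hn) hx⟩)
  obtain ⟨t, htS, ht⟩ := Involutions.exists_involution_of_even_card (S : Subgroup G)
    (even_iff_two_dvd.2 (S.dvd_card_of_dvd_card h.two_dvd))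
  obtain ⟨w₀, hw₀, hw₀o⟩ := h.exists_mem_pPart hr ht
  have hw₀W : w₀ ∈ W := hθW t htS (ne_one_of_two ht) hw₀
  have hWne : W ≠ ⊥ := fun e => by
    rw [e, Subgroup.mem_bot] at hw₀W
    rw [hw₀W, orderOf_one] at hw₀o
    exact h.prime_p.ne_one hw₀o.symm
  set M := normalizer (W : Set G) with hM
  have hMne : M ≠ ⊤ := by
    intro e
    haveI hn : W.Normal := Subgroup.normalizer_eq_top_iff.1 e
    rcases hn.eq_bot_or_eq_top with e' | e'
    · exact hWne e'
    · exact hW2 (by rw [e', Subgroup.card_top]; exact h.two_dvd)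
  have hCM : ∀ a ∈ (S : Subgroup G), orderOf a = 2 → centralizer ({a} : Set G) ≤ M := by
    intro a ha ha2
    rw [h.centralizer_eq hr S ha ha2]
    exact sup_le hSW ((hθW a ha (ne_one_of_two ha2)).trans Subgroup.le_normalizer)
  have hSE : Cfsg.IsStronglyEmbedded M := isStronglyEmbedded_of hMne S
    (fun a ha b hb => h.comm_sylow S ha hb) h.two_dvd hCM
    (fun n hn => Coprime.mem_normalizer_of_forall_conj (hconjW n hn))
  -- elements of `W` centralised by a hyperplane
  have hplane : ∀ B : Subgroup G, B ≤ (S : Subgroup G) → B.relIndex (S : Subgroup G) = 2 →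
      ∀ z ∈ W, z ≠ 1 → (∀ b ∈ B, Commute z b) → ∀ y : G, Commute y z → y ^ p = 1 → y ∈ W := by
    intro B hB hB2 z hzW hz1 hzB y hyz hyp
    have hzp : z ^ p = 1 := h.pow_p_of_mem hWp hzW
    have hzo := h.orderOf_p hzp hz1
    -- every element of `S` outside `B` inverts `z`
    have hout : ∀ r ∈ (S : Subgroup G), r ∉ B → r * z * r⁻¹ = z⁻¹ := by
      intro r hrS hrB
      refine InvChar.InvolutionCores.inverts (hsq r hrS) (W ⊓ centralizer (B : Set G)) ?_ ?_ z
        ⟨hzW, mem_centralizer_iff.2 fun b hb => (hzB b hb).eq.symm⟩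
      · rintro x ⟨hxW, hxB⟩
        refine ⟨Coprime.mem_normalizer_conj (hSW hrS) hxW, mem_centralizer_iff.2 fun b hb => ?_⟩
        have h1 : Commute b r := h.comm_sylow S (hB hb) hrS
        have h2 : Commute b x := mem_centralizer_iff.1 hxB b hb
        exact ((h1.mul_right h2).mul_right h1.inv_right).eq
      · rintro x ⟨hxW, hxB⟩ hc
        refine h.eq_one_of_commute_sylow hr S (h.pow_p_of_mem hWp hxW) fun s hs => ?_
        have hidx : (B.subgroupOf (S : Subgroup G)).index = 2 := hB2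
        by_cases hsB : s ∈ B
        · exact (mem_centralizer_iff.1 hxB s hsB).symm
        · have h1 := (Subgroup.mul_mem_iff_of_index_two hidx (a := ⟨s, hs⟩) (b := ⟨r, hrS⟩)).2
            ⟨fun e => absurd e hsB, fun e => absurd e hrB⟩
          rw [mem_subgroupOf] at h1
          have h2 : Commute x (s * r) := (mem_centralizer_iff.1 hxB _ h1).symm
          have h3 : Commute x (s * r * r⁻¹) := h2.mul_right hc.inv_right
          rwa [mul_inv_cancel_right] at h3
    set K := extCent z with hK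
    have hSK : (S : Subgroup G) ≤ K := by
      intro r hrS
      by_cases hrB : r ∈ B
      · exact Or.inl (mul_inv_eq_iff_eq_mul.2 (hzB r hrB).eq.symm)
      · exact Or.inr (hout r hrS hrB)
    have hyK : y ∈ K := Or.inl (mul_inv_eq_iff_eq_mul.2 hyz.eq)
    obtain ⟨T, hT⟩ := Orders2P.sylow_subgroupOf S hSK
    have hn := h.normal_sup (fun x hx => h.not_q_of_mem_extCent hzo hx) T
    set O := Cfsg.pCore p K with hO
    haveI hOn : O.Normal := Cfsg.pCore_normal p _
    set O' := O.map K.subtype with hO'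
    have hO'p : IsPGroup p O' := (PCore.pCore_isPGroup (p := p) (G := K)).map _
    have hO'odd : Odd (Nat.card O') := by
      obtain ⟨i, hi⟩ := hO'p.exists_card_eq
      rw [hi]; exact (h.prime_p.odd_of_ne_two h.p_ne_two).pow
    have hKO' : ∀ g ∈ K, ∀ x ∈ O', g * x * g⁻¹ ∈ O' := by
      rintro g hg _ ⟨x, hx, rfl⟩
      exact ⟨⟨g, hg⟩ * x * ⟨g, hg⟩⁻¹, hOn.conj_mem x hx _, by simp⟩
    have hSO' : (S : Subgroup G) ≤ normalizer (O' : Set G) := fun s hs =>
      Coprime.mem_normalizer_of_forall_conj (hKO' s (hSK hs))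
    have hO'W : O' ≤ W := hmax O' hO'odd hSO'
    -- Frattini
    set U := (S : Subgroup G).map (MulAut.conj y).toMonoidHom with hU
    have hUle : U ≤ (S : Subgroup G) ⊔ O' := by
      rintro _ ⟨a, ha, rfl⟩
      have h1 := hn.conj_mem (⟨a, hSK ha⟩ : K) (mem_sup_left (by rw [hT]; exact ha)) ⟨y, hyK⟩
      have h2 : ((T : Subgroup K) ⊔ O).map K.subtype ≤ (S : Subgroup G) ⊔ O' := by
        rw [Subgroup.map_sup, hT]
        exact sup_le_sup_right (by rw [Subgroup.subgroupOf_map_subtype]; exact inf_le_left) _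
      exact h2 ⟨_, h1, rfl⟩
    obtain ⟨k, hk⟩ := S.2.exists_card_eq
    have hUc : Nat.card U = Nat.card (S : Subgroup G) :=
      Subgroup.card_map_of_injective (MulAut.conj y).injective
    have hcopO : (Nat.card (S : Subgroup G)).Coprime (Nat.card O') :=
      hk ▸ (Nat.coprime_two_left.2 hO'odd).pow_left k
    obtain ⟨x, hx, hxle⟩ := Coprime.exists_conj_le_of_coprime (S : Subgroup G) O' hSO' hcopO U hUle
      (hUc ▸ hcopO) (Or.inr (haveI := hO'p.isNilpotent; inferInstance))
    set n := x * y with hn'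
    have hxK : x ∈ K := map_subtype_le _ hx
    have hnS : n ∈ normalizer ((S : Subgroup G) : Set G) := by
      refine Coprime.mem_normalizer_of_forall_conj fun a ha => ?_
      have h1 : y * a * y⁻¹ ∈ U := ⟨a, ha, by simp⟩
      have h2 := hxle (Subgroup.smul_mem_pointwise_smul _ (MulAut.conj x) _ h1)
      rw [hn', show x * y * a * (x * y)⁻¹ = x * (y * a * y⁻¹) * x⁻¹ by group]
      simpa [mul_assoc] using h2
    -- `n` has order dividing `p`
    have hnp : n ^ p = 1 := by
      have hnK : n ∈ K := K.mul_mem hxK hyK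
      obtain ⟨x', hx', hxx'⟩ := hx
      have hmem : n ^ p ∈ O' := by
        refine ⟨⟨n, hnK⟩ ^ p, ?_, by simp⟩
        rw [SetLike.mem_coe, ← QuotientGroup.eq_one_iff, QuotientGroup.mk_pow]
        have e : (⟨n, hnK⟩ : K) = x' * ⟨y, hyK⟩ := Subtype.ext (by simp [hn', ← hxx'])
        rw [e, QuotientGroup.mk_mul, (QuotientGroup.eq_one_iff x').2 hx', one_mul,
          ← QuotientGroup.mk_pow, show (⟨y, hyK⟩ : K) ^ p = 1 from Subtype.ext (by simpa using hyp),
          QuotientGroup.mk_one]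
      refine h.pow_p_of_pow (k := 2) ?_
      rw [pow_two, pow_mul]
      exact h.pow_p_of_mem hO'p hmem
    have hnz : Commute n z := by
      have hxz : Commute x z := by
        rcases hxK with e | e
        · exact mul_inv_eq_iff_eq_mul.1 e
        · exfalso
          obtain ⟨l, hl⟩ := h.prime_p.odd_of_ne_two h.p_ne_two
          have hxp := h.pow_p_of_mem hO'p hx
          have hodd : ∀ j : ℕ, x ^ (2 * j + 1) * z * (x ^ (2 * j + 1))⁻¹ = z⁻¹ := by
            intro j
            induction j with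
            | zero => simpa using e
            | succ j ih =>
              rw [show x ^ (2 * (j + 1) + 1) * z * (x ^ (2 * (j + 1) + 1))⁻¹ =
                x * (x * (x ^ (2 * j + 1) * z * (x ^ (2 * j + 1))⁻¹) * x⁻¹) * x⁻¹ by
                  rw [show 2 * (j + 1) + 1 = (2 * j + 1) + 1 + 1 by ring, pow_succ', pow_succ']; group,
                ih, show x * z⁻¹ * x⁻¹ = (x * z * x⁻¹)⁻¹ by group, e, inv_inv, e]
          have h1 := hodd l
          rw [← hl, hxp] at h1
          simp only [one_mul, inv_one, mul_one] at h1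
          have h2 : z ^ 2 = 1 := by rw [pow_two, mul_eq_one_iff_eq_inv, ← h1]
          have h3 := orderOf_dvd_of_pow_eq_one h2
          rw [hzo] at h3
          exact h.p_ne_two ((Nat.prime_dvd_prime_iff_eq h.prime_p Nat.prime_two).1 h3)
      exact hxz.mul_left hyz
    -- `n` fixes an element of `S` outside `B`
    have hnB : ∀ r ∈ (S : Subgroup G), r ∈ B ↔ Commute z r := fun r hrS =>
      ⟨hzB r, fun hc => by_contra fun hrB => by
        have h1 := hout r hrS hrB
        rw [← hc.eq, mul_inv_cancel_right] at h1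
        have h2 : z ^ 2 = 1 := by rw [pow_two, mul_eq_one_iff_eq_inv, ← h1]
        have h3 := orderOf_dvd_of_pow_eq_one h2
        rw [hzo] at h3
        exact h.p_ne_two ((Nat.prime_dvd_prime_iff_eq h.prime_p Nat.prime_two).1 h3)⟩
    set R := {r : (S : Subgroup G) // r ∉ B.subgroupOf (S : Subgroup G)}
    haveI := Fintype.ofFinite R
    have hR : ¬ p ∣ Fintype.card R := by
      haveI := Fintype.ofFinite (S : Subgroup G)
      rw [Fintype.card_subtype_compl, ← Nat.card_eq_fintype_card, ← Nat.card_eq_fintype_card]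
      have h1 := (B.subgroupOf (S : Subgroup G)).card_mul_index
      rw [show (B.subgroupOf (S : Subgroup G)).index = 2 from hB2] at h1
      intro hd
      have h2 : p ∣ Nat.card (S : Subgroup G) := by
        rw [← h1]
        refine dvd_mul_of_dvd_left (hd.trans (dvd_of_eq ?_)) 2
        change _ - Nat.card (B.subgroupOf (S : Subgroup G)) = _
        omega
      exact h.p_ne_two ((Nat.prime_dvd_prime_iff_eq h.prime_p Nat.prime_two).1
        (h.prime_p.dvd_of_dvd_pow (hk ▸ h2)))
    have hpres : ∀ g : G, g ∈ normalizer ((S : Subgroup G) : Set G) → Commute g z → ∀ r : R,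
        ∃ r' : R, ((r' : (S : Subgroup G)) : G) = g * ((r : (S : Subgroup G)) : G) * g⁻¹ := by
      intro g hg hgz r
      refine ⟨⟨⟨_, Coprime.mem_normalizer_conj hg r.1.2⟩, fun hm => r.2 ?_⟩, rfl⟩
      rw [mem_subgroupOf] at hm ⊢
      rw [hnB _ r.1.2]
      have h1 := ((hnB _ (Coprime.mem_normalizer_conj hg r.1.2)).1 hm).map
        (MulAut.conj g⁻¹).toMonoidHom
      simp only [MulEquiv.coe_toMonoidHom, MulAut.conj_apply, inv_inv] at h1
      rwa [show g⁻¹ * (g * ((r : (S : Subgroup G)) : G) * g⁻¹) * g = ((r : (S : Subgroup G)) : G) by group,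
        show g⁻¹ * z * g = z by rw [mul_assoc, ← hgz.eq, inv_mul_cancel_left]] at h1
    choose f hf using hpres n hnS hnz
    choose f' hf' using hpres n⁻¹ (inv_mem hnS) hnz.inv_left
    let σ : Equiv.Perm R :=
      { toFun := f
        invFun := f'
        left_inv := fun r => Subtype.ext (Subtype.ext (by rw [hf', hf]; group))
        right_inv := fun r => Subtype.ext (Subtype.ext (by rw [hf, hf']; group)) }
    have hσpow : ∀ (j : ℕ) (r : R), (((σ ^ j) r : (S : Subgroup G)) : G) =
        n ^ j * ((r : (S : Subgroup G)) : G) * (n ^ j)⁻¹ := by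
      intro j
      induction j with
      | zero => intro r; simp
      | succ j ih =>
        intro r
        rw [pow_succ', Equiv.Perm.mul_apply]
        show ((f ((σ ^ j) r) : (S : Subgroup G)) : G) = _
        rw [hf, ih, pow_succ']; group
    have hσ : σ ^ p ^ 1 = 1 := Equiv.ext fun r => Subtype.ext (Subtype.ext (by
      rw [hσpow, pow_one, hnp]; simp))
    obtain ⟨r, hr'⟩ := Equiv.Perm.exists_fixed_point_of_prime hR hσ
    have hfix : n * ((r : (S : Subgroup G)) : G) * n⁻¹ = ((r : (S : Subgroup G)) : G) := by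
      have h1 := hσpow 1 r
      rw [pow_one, pow_one, hr'] at h1
      exact h1.symm
    have hr1 : ((r : (S : Subgroup G)) : G) ≠ 1 := fun e =>
      r.2 (by rw [mem_subgroupOf, e]; exact one_mem _)
    have hnW : n ∈ W := hθW _ r.1.2 hr1
      ((h.mem_pPart hr (hinv2 _ r.1.2 hr1)).2 ⟨mul_inv_eq_iff_eq_mul.1 hfix, hnp⟩)
    have := W.mul_mem (W.inv_mem (hO'W hx)) hnW
    rwa [hn', inv_mul_cancel_left] at this
  -- `W` is a Sylow subgroup, centralised by those elements
  obtain ⟨P₀⟩ := (inferInstance : Nonempty (Sylow p G))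
  obtain ⟨z₀, -, hz₀c, hz₀o⟩ := PGroupBasic.exists_central_orderOf_eq P₀.2 (⊤ : Subgroup (P₀ : Subgroup G)) (by
    rw [Ne, ← Subgroup.card_eq_one, Subgroup.card_top]
    refine fun e => P₀.ne_bot_of_dvd_card ?_ (Subgroup.card_eq_one.1 e)
    exact hw₀o ▸ orderOf_dvd_natCard w₀)
  have hfull : ∀ z : G, orderOf z = p → (∀ y : G, Commute y z → y ^ p = 1 → y ∈ W) →
      (∃ P : Sylow p G, (P : Subgroup G) = W) ∧ ∀ x ∈ W, Commute x z := by
    intro z hzo hz
    obtain ⟨φ, hφ⟩ := h.trans (z₀ : G) z ((Subgroup.orderOf_coe z₀).trans (hz₀o.trans hzo.symm))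
    have hle : (P₀ : Subgroup G).map φ.toMonoidHom ≤ W := by
      rintro _ ⟨a, ha, rfl⟩
      refine hz _ ?_ (h.pow_p_of_mem (P₀.2.map φ.toMonoidHom) ⟨a, ha, rfl⟩)
      have h1 : Commute a (z₀ : G) :=
        congrArg Subtype.val (mem_center_iff.1 hz₀c ⟨a, ha⟩)
      exact hφ ▸ h1.map φ.toMonoidHom
    obtain ⟨P, hP⟩ := hWp.exists_le_sylow
    have hcard : Nat.card (P : Subgroup G) ≤ Nat.card ((P₀ : Subgroup G).map φ.toMonoidHom) := by
      rw [Subgroup.card_map_of_injective (φ : G ≃* G).injective, P.card_eq_multiplicity,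
        P₀.card_eq_multiplicity]
    have heq : (P₀ : Subgroup G).map φ.toMonoidHom = (P : Subgroup G) :=
      Subgroup.eq_of_le_of_card_ge (hle.trans hP) hcard
    have hPW : (P : Subgroup G) = W := le_antisymm (heq ▸ hle) hP
    refine ⟨⟨P, hPW⟩, fun x hx => ?_⟩
    rw [← hPW, ← heq] at hx
    obtain ⟨a, ha, rfl⟩ := hx
    have h1 : Commute a (z₀ : G) := congrArg Subtype.val (mem_center_iff.1 hz₀c ⟨a, ha⟩)
    exact hφ ▸ h1.map φ.toMonoidHom
  have hA : Cfsg.IsElementaryAbelian 2 (S : Subgroup G) :=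
    ⟨⟨⟨fun a b => Subtype.ext (h.comm_sylow S a.2 b.2).eq⟩⟩,
      fun a ha => by rw [pow_two]; exact hsq a ha⟩
  have hgen := Coprime39.eq_hyperCent (p := 2) hA (S.ne_bot_of_dvd_card h.two_dvd)
    (Nat.coprime_two_right.2 hWodd) hSW
  -- `W` is abelian
  have hWab : ∀ a ∈ W, ∀ b ∈ W, Commute a b := by
    have hle : W ≤ centralizer (W : Set G) := by
      rw [← hgen]
      refine iSup_le fun B a ha => ?_
      obtain ⟨haW, haB⟩ := mem_inf.1 ha
      rw [hgen]
      refine mem_centralizer_iff.2 fun b hb => ?_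
      by_cases ha1 : a = 1
      · rw [ha1, mul_one, one_mul]
      exact ((hfull a (h.orderOf_p (h.pow_p_of_mem hWp haW) ha1) (hplane B B.2.1 B.2.2 a haW ha1
        fun c hc => (mem_centralizer_iff.1 haB c hc).symm)).2 b hb).eq
    exact fun a ha b hb => (mem_centralizer_iff.1 (hle ha) b hb).symm
  -- one such element and the transfer of its property to all of `W`
  obtain ⟨z₁, hz₁W, hz₁1, hz₁P⟩ : ∃ z ∈ W, z ≠ 1 ∧ ∀ y : G, Commute y z → y ^ p = 1 → y ∈ W := by
    by_contra! hcon
    refine hWne (le_bot_iff.1 ?_)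
    rw [← hgen]
    refine iSup_le fun B a ha => Subgroup.mem_bot.2 ?_
    by_contra ha1
    obtain ⟨y, hy1, hy2, hy3⟩ := hcon a ha.1 ha1
    exact hy3 (hplane B B.2.1 B.2.2 a ha.1 ha1
      (fun c hc => (mem_centralizer_iff.1 ha.2 c hc).symm) y hy1 hy2)
  obtain ⟨⟨PW, hPW⟩, -⟩ := hfull z₁ (h.orderOf_p (h.pow_p_of_mem hWp hz₁W) hz₁1) hz₁P
  have hcentW : ∀ w ∈ W, w ≠ 1 → ∀ y : G, Commute y w → y ^ p = 1 → y ∈ W := by
    intro w hw hw1 y hy hyp
    obtain ⟨φ, hφ⟩ := h.trans z₁ w ((h.orderOf_p (h.pow_p_of_mem hWp hz₁W) hz₁1).trans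
      (h.orderOf_p (h.pow_p_of_mem hWp hw) hw1).symm)
    have hback : ∀ u : G, Commute u w → u ^ p = 1 → u ∈ W.map φ.toMonoidHom := by
      intro u hu hup
      refine ⟨φ.symm u, hz₁P _ ?_ (by rw [← map_pow, hup, map_one]), by simp⟩
      have h1 := hu.map φ.symm.toMonoidHom
      simpa [← hφ] using h1
    have heq : W = W.map φ.toMonoidHom :=
      Subgroup.eq_of_le_of_card_ge (fun u hu => hback u (hWab u hu w hw) (h.pow_p_of_mem hWp hu))
        (Subgroup.card_map_of_injective (φ : G ≃* G).injective).le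
    exact heq.symm ▸ hback y hy hyp
  -- the `p`-elements of `M` lie in `W`
  have hMp : ∀ x ∈ M, x ^ p = 1 → x ∈ W := by
    intro x hx hxp
    have h1 : IsPGroup p (W ⊔ zpowers x : Subgroup G) :=
      hWp.to_sup_of_normal_left' (isPGroup_zpowers_of_pow (k := 1) (by rw [pow_one, hxp]))
        (zpowers_le.2 hx)
    have h2 := PW.is_maximal' h1 (hPW.trans_le le_sup_left)
    rw [hPW] at h2
    exact h2 ▸ (le_sup_right : zpowers x ≤ W ⊔ zpowers x) (mem_zpowers x)
  obtain ⟨i, hi, hiM⟩ := StrongEmbedding.exists_involution_notMem hSE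
  set D := M ⊓ M.map (MulAut.conj i).toMonoidHom with hD
  have hodd : Odd (Nat.card D) := hSE.2.2 i hiM
  have hstep : ∀ u ∈ W, u ≠ 1 → Commute (i * u * i⁻¹) u → i * u * i⁻¹ = u ∨ i * u * i⁻¹ = u⁻¹ →
      False := by
    intro u hu hu1 _ hcase
    refine hiM (Coprime.mem_normalizer_of_forall_conj fun a ha => hcentW u hu hu1 _ ?_
      (by rw [conj_pow, h.pow_p_of_mem hWp ha]; group))
    rcases hcase with e | e
    · have h1 := (hWab a ha u hu).map (MulAut.conj i).toMonoidHom
      simp only [MulEquiv.coe_toMonoidHom, MulAut.conj_apply, e] at h1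
      exact h1
    · exact conj_commute_of_inverts e (hWab a ha u hu)
  have hpnd : ¬ p ∣ Nat.card D := by
    intro hd
    obtain ⟨d, hd'⟩ := exists_prime_orderOf_dvd_card' (G := D) p hd
    have hdp : (d : G) ^ p = 1 := by
      rw [← hd', ← Subgroup.orderOf_coe d]; exact pow_orderOf_eq_one _
    have hd1 : (d : G) ≠ 1 := fun e => by
      rw [← Subgroup.orderOf_coe, e, orderOf_one] at hd'; exact h.prime_p.ne_one hd'.symm
    have hdW : (d : G) ∈ W := hMp _ d.2.1 hdp
    have hd'W : i * (d : G) * i⁻¹ ∈ W :=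
      hMp _ (conj_mem_inter hi d.2).1 (by rw [conj_pow, hdp]; group)
    set u := (d : G) * (i * (d : G) * i⁻¹) with hu
    have huW : u ∈ W := W.mul_mem hdW hd'W
    by_cases hu1 : u = 1
    · have e : i * (d : G) * i⁻¹ = (d : G)⁻¹ := eq_inv_of_mul_eq_one_right hu1
      exact hstep d hdW hd1 (hWab _ hd'W _ hdW) (Or.inr e)
    · have e : i * u * i⁻¹ = u := by
        rw [hu, show i * ((d : G) * (i * (d : G) * i⁻¹)) * i⁻¹ =
          (i * (d : G) * i⁻¹) * ((i * i) * (d : G) * (i * i)⁻¹) by group, sq_of_two hi, one_mul,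
          inv_one, mul_one]
        exact (hWab _ hd'W _ hdW).eq
      exact hstep u huW hu1 (by rw [e]) (Or.inl e)
  obtain ⟨j, hj⟩ : ∃ j, Nat.card {s : G // orderOf s = 2 ∧ s ∈ M} = q ^ j := by
    have hk := (relIndex_centralizer_eq hodd hi fun d hd => conj_mem_inter hi hd).trans
      (card_inverted hSE hi hiM)
    rw [← hk]
    refine h.exists_pow_q ((Subgroup.index_dvd_card _).trans D.card_subgroup_dvd_card)
      (fun h2 => Nat.not_even_iff_odd.2 hodd
        (even_iff_two_dvd.2 (h2.trans (Subgroup.index_dvd_card _))))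
      fun hd => hpnd (hd.trans (Subgroup.index_dvd_card _))
  have hSM : (S : Subgroup G) ≤ M := hSW
  have hWeq : ∀ a ∈ (S : Subgroup G), orderOf a = 2 → W = pPart p a := by
    intro a ha ha2
    refine (Subgroup.eq_of_le_of_card_ge (hθW a ha (ne_one_of_two ha2)) (Nat.le_of_dvd Nat.card_pos ?_)).symm
    have h1 := (relIndex_centralizer_involution hSE (hSM ha) ha2).trans hj
    have hcard : Nat.card M = Nat.card (S : Subgroup G) * Nat.card (pPart p a) * q ^ j := by
      rw [← h1, ← h.card_centralizer hr S ha ha2,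
        ← ((centralizer ({a} : Set G)).subgroupOf M).card_mul_index,
        Nat.card_congr (Subgroup.subgroupOfEquivOfLe (hCM a ha ha2)).toEquiv]
      rfl
    obtain ⟨l, hl⟩ := hWp.exists_card_eq
    obtain ⟨k, hk⟩ := S.2.exists_card_eq
    have h2 : p ^ l ∣ Nat.card (S : Subgroup G) * Nat.card (pPart p a) * q ^ j :=
      hcard ▸ hl ▸ Subgroup.card_dvd_of_le Subgroup.le_normalizer
    have hc1 : (p ^ l).Coprime (q ^ j) :=
      Nat.Coprime.pow l j ((Nat.coprime_primes h.prime_p h.prime_q).2 h.p_ne_q)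
    have hc2 : (p ^ l).Coprime (Nat.card (S : Subgroup G)) :=
      hk ▸ Nat.Coprime.pow l k ((Nat.coprime_primes h.prime_p Nat.prime_two).2 h.p_ne_two)
    rw [hl]
    exact hc2.dvd_of_dvd_mul_left (hc1.dvd_of_dvd_mul_right h2)
  have hw1 : w₀ = 1 := h.eq_one_of_commute_sylow hr S (h.pow_p_of_mem hWp hw₀W) fun s hs => by
    by_cases hs1 : s = 1
    · rw [hs1]; exact Commute.one_right _
    · have h1 : w₀ ∈ pPart p s := hWeq s hs (hinv2 s hs hs1) ▸ hw₀W
      exact ((h.mem_pPart hr (hinv2 s hs hs1)).1 h1).1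
  rw [hw1, orderOf_one] at hw₀o
  exact h.prime_p.ne_one hw₀o.symm

end CfsgLib.AutOrbits
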