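import Cfsg.Agent.Lib.AutOrbits.Real
import Cfsg.Agent.Lib.EPPO21.Torus
import Cfsg.Agent.Lib.PSL2.AltFiveDescent
import Cfsg.Agent.S0202
import Cfsg.Agent.S0203
import Cfsg.Agent.S0508

/-!
# The real mixed case with a Sylow 2-subgroup of order four

The centraliser of an element `d` of order `p` is a Sylow `p`-subgroup, in which `d` is central,
extended by an involution.  The `S`-invariant Sylow `p`-subgroup over `O_p(C(t))` is unique and is
`O_p(C(t))` itself, so the dihedral criterion of Brauer, Suzuki and Wall applies.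
-/

set_option autoImplicit false
set_option linter.style.haveILetI false
set_option linter.unusedSectionVars false

namespace CfsgLib.AutOrbits

open Subgroup

variable {G : Type*} [Group G] [Finite G] {p q : ℕ}

/-- `O_p(C(y))` as a subgroup of `G`. -/
def pCent (p : ℕ) (y : G) : Subgroup G :=
  (Cfsg.pCore p (centralizer ({y} : Set G))).map (centralizer ({y} : Set G)).subtype

theorem pCent_le (p : ℕ) (y : G) : pCent p y ≤ centralizer ({y} : Set G) := map_subtype_le _

theorem isPGroup_pCent (p : ℕ) (y : G) : IsPGroup p (pCent p y) :=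
  (PCore.pCore_isPGroup (p := p) (G := centralizer ({y} : Set G))).map _

/-- A maximal `S`-invariant `p`-subgroup. -/
def IsMaxInv (p : ℕ) (S X : Subgroup G) : Prop :=
  IsPGroup p X ∧ S ≤ normalizer (X : Set G) ∧
    ∀ Y : Subgroup G, IsPGroup p Y → S ≤ normalizer (Y : Set G) → X ≤ Y → Y ≤ X

variable (h : Orders2P G p q) (hr : Real G p) (S : Sylow 2 G) (h4 : Nat.card (S : Subgroup G) = 4)

include h

/-- `y⁻¹ ≠ y` for an element of order `p`. -/
theorem Orders2P.not_fix_inv {y : G} (hy : orderOf y = p) (e : y = y⁻¹) : False := by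
  have h2 : y ^ 2 = 1 := by rw [pow_two, mul_eq_one_iff_eq_inv]; exact e
  have := orderOf_dvd_of_pow_eq_one h2
  rw [hy] at this
  exact h.p_ne_two ((Nat.prime_dvd_prime_iff_eq h.prime_p Nat.prime_two).1 this)

include hr h4

theorem Orders2P.index_pCore_centralizer {y : G} (hy : orderOf y = p) :
    (Cfsg.pCore p (centralizer ({y} : Set G))).index = 2 ∧
      ∀ x : G, Commute x y → x ^ p = 1 → x ∈ pCent p y := by
  haveI : Fact (Nat.Prime 2) := ⟨Nat.prime_two⟩
  set C := centralizer ({y} : Set G) with hC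
  obtain ⟨T⟩ := (inferInstance : Nonempty (Sylow 2 C))
  obtain ⟨t, ht, hyt⟩ := h.exists_inv_commute hy
  have h2C : 2 ∣ Nat.card C :=
    ht ▸ Subgroup.orderOf_dvd_natCard C (mem_centralizer_singleton_iff.2 hyt.eq.symm)
  set T' := (T : Subgroup C).map C.subtype with hT'
  have hT'c : Nat.card T' = Nat.card (T : Subgroup C) :=
    Subgroup.card_map_of_injective C.subtype_injective
  obtain ⟨S₁, hS₁⟩ := (T.2.map C.subtype : IsPGroup 2 T').exists_le_sylow
  have hS₁c : Nat.card (S₁ : Subgroup G) = 4 := by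
    rw [← h4, S₁.card_eq_multiplicity, S.card_eq_multiplicity]
  obtain ⟨k, hk⟩ := T.2.exists_card_eq
  have hle : Nat.card T' ∣ 4 := hS₁c ▸ Subgroup.card_dvd_of_le hS₁
  have hne4 : Nat.card T' ≠ 4 := by
    intro e
    have heq : T' = (S₁ : Subgroup G) := Subgroup.eq_of_le_of_card_ge hS₁ (by rw [e, hS₁c])
    have h1 := h.eq_one_of_commute_sylow hr S₁ (hy ▸ pow_orderOf_eq_one y) fun s hs =>
      (mem_centralizer_singleton_iff.1 (map_subtype_le _ (heq.symm ▸ hs : s ∈ T'))).symm
    rw [h1, orderOf_one] at hy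
    exact h.prime_p.ne_one hy.symm
  have hT2 : Nat.card (T : Subgroup C) = 2 := by
    have h1 : 2 ∣ Nat.card (T : Subgroup C) := T.dvd_card_of_dvd_card h2C
    rw [hT'c] at hle hne4
    have h3 := Nat.le_of_dvd (by norm_num) hle
    interval_cases hc : Nat.card (T : Subgroup C) <;> omega
  haveI : IsCyclic (T : Subgroup C) := isCyclic_of_prime_card hT2
  have hmin : (Nat.card C).minFac = 2 := Nat.minFac_eq_two_iff _ |>.2 h2C
  have hnc : normalizer ((T : Subgroup C) : Set C) ≤ centralizer ((T : Subgroup C) : Set C) :=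
    IsCyclic.normalizer_le_centralizer hmin (inferInstance : IsCyclic (T : Subgroup C))
  have hcomp := MonoidHom.ker_transferSylow_isComplement' T hnc
  set K := (MonoidHom.transferSylow T hnc).ker with hK
  have hKi : K.index = 2 := by rw [hcomp.symm.index_eq_card, hT2]
  have hKodd : Odd (Nat.card K) := by
    rw [Nat.odd_iff]
    by_contra hev
    have h4C : 2 ^ 2 ∣ Nat.card C := by
      rw [← K.card_mul_index, hKi, pow_two]
      exact Nat.mul_dvd_mul (Nat.dvd_of_mod_eq_zero (by omega)) dvd_rfl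
    have := T.pow_dvd_card_of_pow_dvd_card h4C
    rw [hT2] at this
    exact absurd (Nat.le_of_dvd two_pos this) (by norm_num)
  have hKp : IsPGroup p K := by
    have h1 : IsPGroup p (K.map C.subtype) := h.isPGroup_of_odd
      (fun x hx => h.not_q_of_p hy (mem_centralizer_singleton_iff.1 (map_subtype_le _ hx)))
      (by rwa [Subgroup.card_map_of_injective C.subtype_injective])
    exact h1.of_equiv (K.equivMapOfInjective _ C.subtype_injective).symm
  have hmem : ∀ x : C, x ^ p = 1 → x ∈ K := by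
    intro x hx
    obtain ⟨l, hl⟩ := h.prime_p.odd_of_ne_two h.p_ne_two
    have h1 : x = (x ^ 2) ^ (l + 1) := by
      rw [← pow_mul, show 2 * (l + 1) = p + 1 by omega, pow_succ, hx, one_mul]
    rw [h1]
    exact pow_mem (Subgroup.sq_mem_of_index_two hKi x) _
  have hKcore : Cfsg.pCore p C = K := by
    refine le_antisymm (fun x hx => hmem x (Subtype.ext ?_)) (PCore.le_pCore inferInstance hKp)
    simpa using h.pow_p_of_mem ((PCore.pCore_isPGroup (p := p) (G := C)).map C.subtype) ⟨x, hx, rfl⟩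
  refine ⟨hKcore ▸ hKi, fun x hxy hxp => ?_⟩
  exact ⟨⟨x, mem_centralizer_singleton_iff.2 hxy.eq⟩,
    hKcore.symm ▸ hmem _ (Subtype.ext (by simpa using hxp)), rfl⟩

theorem Orders2P.mem_pCent {y : G} (hy : orderOf y = p) {x : G} :
    x ∈ pCent p y ↔ Commute x y ∧ x ^ p = 1 :=
  ⟨fun hx => ⟨mem_centralizer_singleton_iff.1 (pCent_le p y hx),
    h.pow_p_of_mem (isPGroup_pCent p y) hx⟩,
    fun hx => (h.index_pCore_centralizer hr S h4 hy).2 x hx.1 hx.2⟩

theorem Orders2P.exists_sylow_pCent {y : G} (hy : orderOf y = p) :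
    ∃ P : Sylow p G, (P : Subgroup G) = pCent p y := by
  haveI : Fact p.Prime := ⟨h.prime_p⟩
  obtain ⟨P₀⟩ := (inferInstance : Nonempty (Sylow p G))
  obtain ⟨z₀, -, hz₀c, hz₀o⟩ := PGroupBasic.exists_central_orderOf_eq P₀.2
    (⊤ : Subgroup (P₀ : Subgroup G)) (by
      rw [Ne, ← Subgroup.card_eq_one, Subgroup.card_top]
      refine fun e => P₀.ne_bot_of_dvd_card ?_ (Subgroup.card_eq_one.1 e)
      exact hy ▸ orderOf_dvd_natCard y)
  obtain ⟨φ, hφ⟩ := h.trans (z₀ : G) y ((Subgroup.orderOf_coe z₀).trans (hz₀o.trans hy.symm))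
  have hle : (P₀ : Subgroup G).map φ.toMonoidHom ≤ pCent p y := by
    rintro _ ⟨a, ha, rfl⟩
    refine (h.mem_pCent hr S h4 hy).2 ⟨?_, h.pow_p_of_mem (P₀.2.map φ.toMonoidHom) ⟨a, ha, rfl⟩⟩
    have h1 : Commute a (z₀ : G) := congrArg Subtype.val (mem_center_iff.1 hz₀c ⟨a, ha⟩)
    exact hφ ▸ h1.map φ.toMonoidHom
  obtain ⟨P, hP⟩ := (isPGroup_pCent (G := G) p y).exists_le_sylow
  refine ⟨P, le_antisymm ?_ hP⟩
  have heq : (P₀ : Subgroup G).map φ.toMonoidHom = (P : Subgroup G) :=
    Subgroup.eq_of_le_of_card_ge (hle.trans hP) (by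
      rw [Subgroup.card_map_of_injective (φ : G ≃* G).injective, P.card_eq_multiplicity,
        P₀.card_eq_multiplicity])
  exact heq ▸ hle

theorem Orders2P.conj_mem_pCent {y g : G} (hy : orderOf y = p)
    (hg : g * y * g⁻¹ = y ∨ g * y * g⁻¹ = y⁻¹) {x : G} (hx : x ∈ pCent p y) :
    g * x * g⁻¹ ∈ pCent p y := by
  obtain ⟨hc, hp⟩ := (h.mem_pCent hr S h4 hy).1 hx
  refine (h.mem_pCent hr S h4 hy).2 ⟨?_, by rw [conj_pow, hp]; group⟩
  rcases hg with e | e
  · have h1 := hc.map (MulAut.conj g).toMonoidHom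
    simp only [MulEquiv.coe_toMonoidHom, MulAut.conj_apply, e] at h1
    exact h1
  · exact conj_commute_of_inverts e hc

/-- Two maximal `S`-invariant `p`-subgroups over `O_p(C(t))` are equal. -/
theorem Orders2P.maxInv_unique {t : G} (htS : t ∈ (S : Subgroup G)) (ht : orderOf t = 2) (n : ℕ) :
    ∀ P P' : Subgroup G, Nat.card G ≤ Nat.card (P ⊓ P' : Subgroup G) + n →
      IsMaxInv p (S : Subgroup G) P → IsMaxInv p (S : Subgroup G) P' →
      pPart p t ≤ P → pPart p t ≤ P' → P = P' := by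
  haveI : Fact (Nat.Prime 2) := ⟨Nat.prime_two⟩
  haveI : Fact p.Prime := ⟨h.prime_p⟩
  induction n with
  | zero =>
    intro P P' hle _ _ _ _
    have htop : P ⊓ P' = ⊤ := Subgroup.eq_top_of_le_card _ (by simpa using hle)
    rw [eq_top_iff, le_inf_iff, ← eq_top_iff, ← eq_top_iff] at htop
    rw [htop.1, htop.2]
  | succ n ih =>
    intro P P' hle hP hP' hWP hWP'
    by_contra hne
    set R := P ⊓ P' with hR
    have hSR : (S : Subgroup G) ≤ normalizer (R : Set G) := fun s hs =>
      Coprime.mem_normalizer_of_forall_conj fun x hx =>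
        ⟨Coprime.mem_normalizer_conj (hP.2.1 hs) hx.1, Coprime.mem_normalizer_conj (hP'.2.1 hs) hx.2⟩
    set L := normalizer (R : Set G) with hL
    obtain ⟨T, hT⟩ := Orders2P.sylow_subgroupOf S hSR
    have hTcard : Nat.card (T : Subgroup L) = 4 := by
      rw [hT, Nat.card_congr (Subgroup.subgroupOfEquivOfLe hSR).toEquiv, h4]
    haveI hKlein : IsKleinFour (T : Subgroup L) := by
      refine ⟨hTcard, ?_⟩
      haveI : Nontrivial (T : Subgroup L) := by
        rw [← Finite.one_lt_card_iff_nontrivial, hTcard]; norm_num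
      rw [Monoid.exponent_eq_prime_iff Nat.prime_two]
      intro g hg
      refine two_of_sq (Subtype.ext (Subtype.ext ?_)) hg
      exact h.sq_of_mem (T.2.map L.subtype) ⟨(g : L), g.2, rfl⟩
    -- the two halves
    have half : ∀ Q : Subgroup G, IsMaxInv p (S : Subgroup G) Q → R ≤ Q → ¬ Q ≤ R →
        (S : Subgroup G) ≤ normalizer ((Q ⊓ L : Subgroup G) : Set G) ∧ R < Q ⊓ L := by
      intro Q hQ hRQ hnot
      refine ⟨fun s hs => Coprime.mem_normalizer_of_forall_conj fun x hx =>
        ⟨Coprime.mem_normalizer_conj (hQ.2.1 hs) hx.1,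
          L.mul_mem (L.mul_mem (hSR hs) hx.2) (L.inv_mem (hSR hs))⟩, ?_⟩
      obtain ⟨y, hy, hyR, hyN⟩ := Involutions.exists_mem_normalizer_notMem hQ.1
        (lt_of_le_of_ne hRQ fun e => hnot e.ge)
      exact lt_of_le_of_ne (le_inf hRQ Subgroup.le_normalizer) fun e => hyR (e.symm ▸ ⟨hy, hyN⟩)
    have hnP : ¬ P ≤ R := fun e => hne (le_antisymm (e.trans inf_le_right)
      (hP.2.2 P' hP'.1 hP'.2.1 (e.trans inf_le_right)))
    have hnP' : ¬ P' ≤ R := fun e => hne (le_antisymm (hP'.2.2 P hP.1 hP.2.1 (e.trans inf_le_left))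
      (e.trans inf_le_left))
    obtain ⟨hX, hRX⟩ := half P hP inf_le_left hnP
    obtain ⟨hX', hRX'⟩ := half P' hP' inf_le_right hnP'
    have hWR : pPart p t ≤ R := le_inf hWP hWP'
    have hodd : ∀ Q : Subgroup G, IsPGroup p Q → Odd (Nat.card Q) := fun Q hQ => by
      obtain ⟨i, hi⟩ := hQ.exists_card_eq
      rw [hi]; exact (h.prime_p.odd_of_ne_two h.p_ne_two).pow
    rcases Cfsg.Agent.S0202.result T hKlein with h1 | h3
    · -- one class: all of it lies in `R`
      refine absurd (h.le_of_fixed S (X := P ⊓ L) (H := R) (hodd _ (hP.1.to_le inf_le_left)) hX ?_)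
        (fun e => hRX.ne (le_antisymm hRX.le e))
      intro r hrS hr2 x hx hc
      haveI := (Nat.card_eq_one_iff_unique.1 h1).1
      have hLr : orderOf (⟨r, hSR hrS⟩ : L) = 2 := by rw [Subgroup.orderOf_mk, hr2]
      have hLt : orderOf (⟨t, hSR htS⟩ : L) = 2 := by rw [Subgroup.orderOf_mk, ht]
      have he := congrArg Subtype.val (Subsingleton.elim
        (⟨ConjClasses.mk (⟨r, hSR hrS⟩ : L), ⟨r, hSR hrS⟩, hLr, rfl⟩ :
          {C : ConjClasses L // ∃ u : L, orderOf u = 2 ∧ ConjClasses.mk u = C})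
        ⟨ConjClasses.mk (⟨t, hSR htS⟩ : L), ⟨t, hSR htS⟩, hLt, rfl⟩)
      obtain ⟨l, hl⟩ := isConj_iff.1 (ConjClasses.mk_eq_mk_iff_isConj.1 he)
      have hlt : (l : G) * r * (l : G)⁻¹ = t := congrArg Subtype.val hl
      have hxp := h.pow_p_of_mem hP.1 hx.1
      have h2 : (l : G) * x * (l : G)⁻¹ ∈ pPart p t :=
        hlt ▸ h.mem_pPart_conj hr hr2 ((h.mem_pPart hr hr2).2 ⟨hc, hxp⟩)
      exact (Subgroup.mem_normalizer_iff.1 l.2 x).2 (hWR h2)
    · -- three classes: a normal 2-complement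
      obtain ⟨N, hN, hcomp⟩ := (Cfsg.Agent.S0203.result T hKlein).1 h3
      haveI := hN
      have hNodd : Odd (Nat.card N) := by
        rw [← hcomp.index_eq_card, Nat.odd_iff]
        have := T.not_dvd_index
        omega
      set N' := N.map L.subtype with hN'
      have hN'inv : (S : Subgroup G) ≤ normalizer (N' : Set G) := fun s hs =>
        Coprime.mem_normalizer_of_forall_conj (by
          rintro _ ⟨x, hx, rfl⟩
          exact ⟨⟨s, hSR hs⟩ * x * ⟨s, hSR hs⟩⁻¹, hN.conj_mem x hx _, by simp⟩)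
      have hN'p : IsPGroup p N' := h.isPGroup_of_invariant S
        (by rwa [Subgroup.card_map_of_injective L.subtype_injective]) hN'inv
      have hcontain : ∀ Q : Subgroup G, IsPGroup p Q → Q ⊓ L ≤ N' := by
        intro Q hQ x hx
        refine ⟨⟨x, hx.2⟩, ?_, rfl⟩
        rw [SetLike.mem_coe, ← QuotientGroup.eq_one_iff]
        have h1 : (((⟨x, hx.2⟩ : L) : L ⧸ N)) ^ p = 1 := by
          rw [← QuotientGroup.mk_pow, show (⟨x, hx.2⟩ : L) ^ p = 1 from
            Subtype.ext (by simpa using h.pow_p_of_mem hQ hx.1), QuotientGroup.mk_one]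
        have h2 : (((⟨x, hx.2⟩ : L) : L ⧸ N)) ^ 4 = 1 := by
          rw [← hTcard, ← hcomp.symm.index_eq_card, Subgroup.index]
          exact pow_card_eq_one'
        have h3 := pow_gcd_eq_one.2 ⟨h1, h2⟩
        rwa [show Nat.gcd p 4 = 1 from ((Nat.coprime_primes h.prime_p Nat.prime_two).2 h.p_ne_two).pow_right 2,
          pow_one] at h3
      obtain ⟨Q, hQle, ⟨hQp, hQS⟩, hQmax⟩ := Finite.exists_le_maximal
        (p := fun Y : Subgroup G => IsPGroup p Y ∧ (S : Subgroup G) ≤ normalizer (Y : Set G))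
        (a := N') ⟨hN'p, hN'inv⟩
      have hQ : IsMaxInv p (S : Subgroup G) Q := ⟨hQp, hQS, fun Y hY hYS hQY => hQmax ⟨hY, hYS⟩ hQY⟩
      have hXQ : P ⊓ L ≤ Q := (hcontain P hP.1).trans hQle
      have hX'Q : P' ⊓ L ≤ Q := (hcontain P' hP'.1).trans hQle
      have hcard : ∀ A X : Subgroup G, R < X → X ≤ A → X ≤ Q →
          Nat.card R < Nat.card (A ⊓ Q : Subgroup G) := fun A X hlt hA hXQ =>
        (lt_of_le_of_ne (Subgroup.card_le_of_le hlt.le)
          fun e => hlt.ne (Subgroup.eq_of_le_of_card_ge hlt.le e.ge)).trans_le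
          (Subgroup.card_le_of_le (le_inf hA hXQ))
      have hWQ : pPart p t ≤ Q := hWR.trans (hRX.le.trans hXQ)
      have e1 := ih P Q (by have := hcard P _ hRX inf_le_left hXQ; omega) hP hQ hWP hWQ
      have e2 := ih P' Q (by have := hcard P' _ hRX' inf_le_left hX'Q; omega) hP' hQ hWP' hWQ
      exact hne (e1.trans e2.symm)

/-- `C(w) ≤ C(t)` for nontrivial `w` in `O_p(C(t))`. -/
theorem Orders2P.centralizer_le_of_mem {t : G} (htS : t ∈ (S : Subgroup G)) (ht : orderOf t = 2)
    {w : G} (hw : w ∈ pPart p t) (hw1 : w ≠ 1) :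
    centralizer ({w} : Set G) ≤ centralizer ({t} : Set G) := by
  classical
  haveI : Fact p.Prime := ⟨h.prime_p⟩
  haveI : Fact (Nat.Prime 2) := ⟨Nat.prime_two⟩
  have hinvol : ∀ a ∈ (S : Subgroup G), a ≠ 1 → orderOf a = 2 := fun a ha h1 =>
    two_of_sq (h.sq_of_mem S.2 ha) h1
  -- the involutions of `S` other than `t` invert the part at `t`
  have hinv : ∀ a b : G, a ∈ (S : Subgroup G) → b ∈ (S : Subgroup G) → orderOf a = 2 → b ≠ 1 →
      b ≠ a → ∀ x ∈ pPart p a, b * x * b⁻¹ = x⁻¹ := by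
    intro a b ha hb ha2 hb1 hba
    refine InvChar.InvolutionCores.inverts (h.sq_of_mem S.2 hb) (pPart p a)
      (fun x hx => h.conj_mem_pPart hr ha2 (h.comm_sylow S hb ha) hx) fun x hx hc => ?_
    obtain ⟨hca, hxp⟩ := (h.mem_pPart hr ha2).1 hx
    refine h.eq_one_of_commute_sylow hr S hxp fun s hs => ?_
    -- `S` is generated by `a` and `b`
    haveI : IsKleinFour (S : Subgroup G) := by
      refine ⟨h4, ?_⟩
      haveI : Nontrivial (S : Subgroup G) := by rw [← Finite.one_lt_card_iff_nontrivial, h4]; norm_num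
      rw [Monoid.exponent_eq_prime_iff Nat.prime_two]
      exact fun g hg => two_of_sq (Subtype.ext (h.sq_of_mem S.2 g.2)) hg
    by_cases hs1 : s = 1
    · rw [hs1]; exact Commute.one_right x
    by_cases hsa : s = a
    · rw [hsa]; exact hca
    by_cases hsb : s = b
    · rw [hsb]; exact hc
    have h3 := IsKleinFour.eq_mul_of_ne_all (x := (⟨a, ha⟩ : (S : Subgroup G))) (y := ⟨b, hb⟩)
      (z := ⟨s, hs⟩) (fun e => ne_one_of_two ha2 (congrArg Subtype.val e))
      (fun e => hb1 (congrArg Subtype.val e)) (fun e => hba (congrArg Subtype.val e).symm)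
      (fun e => hs1 (congrArg Subtype.val e)) (fun e => hsa (congrArg Subtype.val e))
      (fun e => hsb (congrArg Subtype.val e))
    rw [show s = a * b from congrArg Subtype.val h3]
    exact hca.mul_right hc
  have hfixor : ∀ a ∈ (S : Subgroup G), orderOf a = 2 → ∀ x ∈ pPart p a, ∀ b ∈ (S : Subgroup G),
      b * x * b⁻¹ = x ∨ b * x * b⁻¹ = x⁻¹ := by
    intro a ha ha2 x hx b hb
    by_cases hb1 : b = 1
    · left; rw [hb1]; simp
    by_cases hba : b = a
    · left; rw [hba]; exact mul_inv_eq_iff_eq_mul.2 ((h.mem_pPart hr ha2).1 hx).1.eq.symm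
    · exact Or.inr (hinv a b ha hb ha2 hb1 hba x hx)
  have hordp : ∀ a : G, orderOf a = 2 → ∀ x ∈ pPart p a, x ≠ 1 → orderOf x = p := fun a _ x hx h1 =>
    h.orderOf_p (h.pow_p_of_mem (isPGroup_pPart p a) hx) h1
  have hmaxinv : ∀ x : G, orderOf x = p → (∀ b ∈ (S : Subgroup G), b * x * b⁻¹ = x ∨ b * x * b⁻¹ = x⁻¹) →
      IsMaxInv p (S : Subgroup G) (pCent p x) := by
    intro x hx hb
    obtain ⟨P, hP⟩ := h.exists_sylow_pCent hr S h4 hx
    refine ⟨isPGroup_pCent p x, fun b hb' => Coprime.mem_normalizer_of_forall_conj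
      fun y hy => h.conj_mem_pCent hr S h4 hx (hb b hb') hy, fun Y hY _ hle => ?_⟩
    rw [← hP] at hle ⊢
    exact (P.is_maximal' hY hle).le
  have hwo := hordp t ht w hw hw1
  set P := pCent p w with hPdef
  have hPmax := hmaxinv w hwo (hfixor t htS ht w hw)
  have hWab : ∀ a ∈ pPart p t, ∀ b ∈ pPart p t, Commute a b := by
    haveI : Nontrivial (S : Subgroup G) := by rw [← Finite.one_lt_card_iff_nontrivial, h4]; norm_num
    obtain ⟨s, hs, hst1, hst⟩ : ∃ s ∈ (S : Subgroup G), s ≠ 1 ∧ s ≠ t := by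
      by_contra! hall
      have hsub : ∀ s ∈ (S : Subgroup G), s ∈ zpowers t := fun s hs => by
        by_cases h1 : s = 1
        · rw [h1]; exact one_mem _
        · rw [hall s hs h1]; exact mem_zpowers t
      have := Subgroup.card_le_of_le (K := zpowers t) (H := (S : Subgroup G)) hsub
      rw [h4, Nat.card_zpowers, ht] at this
      omega
    intro a ha b hb
    have e1 := hinv t s htS hs ht hst1 hst a ha
    have e2 := hinv t s htS hs ht hst1 hst b hb
    have e3 := hinv t s htS hs ht hst1 hst _ ((pPart p t).mul_mem ha hb)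
    rw [show s * (a * b) * s⁻¹ = (s * a * s⁻¹) * (s * b * s⁻¹) by group, e1, e2, mul_inv_rev] at e3
    exact (Commute.inv_inv_iff (a := a) (b := b)).1 e3
  have hWle : ∀ x ∈ pPart p t, x ≠ 1 → pPart p t ≤ pCent p x := fun x hx hx1 a ha =>
    (h.mem_pCent hr S h4 (hordp t ht x hx hx1)).2
      ⟨hWab a ha x hx, h.pow_p_of_mem (isPGroup_pPart p t) ha⟩
  have huniq : ∀ Q, IsMaxInv p (S : Subgroup G) Q → pPart p t ≤ Q → Q = P := fun Q hQ hle =>
    h.maxInv_unique hr S h4 htS ht (Nat.card G) Q P (Nat.le_add_left _ _) hQ hPmax hle (hWle w hw hw1)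
  have hWcent : ∀ x ∈ pPart p t, ∀ a ∈ P, Commute a x := by
    intro x hx a ha
    by_cases hx1 : x = 1
    · rw [hx1]; exact Commute.one_right a
    have e := huniq _ (hmaxinv x (hordp t ht x hx hx1) (hfixor t htS ht x hx)) (hWle x hx hx1)
    exact mem_centralizer_singleton_iff.1 (pCent_le p x (e.symm ▸ ha))
  -- the elements of `P` fixed by another involution of `S` are central in `P`
  have hgfix : ∀ s ∈ (S : Subgroup G), orderOf s = 2 → s ≠ t → ∀ g ∈ P, Commute g s → g = 1 := by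
    intro s hs hs2 hst g hg hgs
    by_contra hg1
    have hgp : g ^ p = 1 := h.pow_p_of_mem hPmax.1 hg
    have hgW : g ∈ pPart p s := (h.mem_pPart hr hs2).2 ⟨hgs, hgp⟩
    have hgo := h.orderOf_p hgp hg1
    have e := huniq _ (hmaxinv g hgo (hfixor s hs hs2 g hgW)) fun a ha =>
      (h.mem_pCent hr S h4 hgo).2 ⟨(hWcent a ha g hg).symm, h.pow_p_of_mem (isPGroup_pPart p t) ha⟩
    have hgc : ∀ a ∈ P, Commute a g := fun a ha =>
      mem_centralizer_singleton_iff.1 (pCent_le p g (e.symm ▸ ha))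
    have hwg : Commute w g := hgc w ((h.mem_pCent hr S h4 hwo).2
      ⟨Commute.refl w, hwo ▸ pow_orderOf_eq_one w⟩)
    have htg : t * g * t⁻¹ = g⁻¹ := hinv s t hs htS hs2 (ne_one_of_two ht) (Ne.symm hst) g hgW
    have hsw : s * w * s⁻¹ = w⁻¹ := hinv t s htS hs ht (ne_one_of_two hs2) hst w hw
    have htw : t * w * t⁻¹ = w :=
      mul_inv_eq_iff_eq_mul.2 ((h.mem_pPart hr ht).1 hw).1.eq.symm
    have hsg : s * g * s⁻¹ = g := mul_inv_eq_iff_eq_mul.2 hgs.eq.symm
    set e' := w * g with he'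
    have hep : e' ^ p = 1 := by rw [he', hwg.mul_pow, hgp, ← hwo, pow_orderOf_eq_one, one_mul]
    have he1 : e' ≠ 1 := fun e1 => by
      have hgw : g = w⁻¹ := eq_inv_of_mul_eq_one_right e1
      rw [hgw] at htg
      rw [show t * w⁻¹ * t⁻¹ = (t * w * t⁻¹)⁻¹ by group, htw, inv_inv] at htg
      exact h.not_fix_inv hwo htg.symm
    have heo := h.orderOf_p hep he1
    have hwP : w ∈ P := (h.mem_pCent hr S h4 hwo).2 ⟨Commute.refl w, hwo ▸ pow_orderOf_eq_one w⟩
    have hPc : ∀ a ∈ P, Commute a e' := fun a ha =>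
      (hWcent w hw a ha).mul_right (hgc a ha)
    obtain ⟨PS, hPS⟩ := h.exists_sylow_pCent hr S h4 hwo
    obtain ⟨v, hv, hev⟩ := h.exists_inv_commute heo
    -- `v` normalises `P`
    have hPe : P = pCent p e' := by
      have hle : P ≤ pCent p e' := fun a ha =>
        (h.mem_pCent hr S h4 heo).2 ⟨hPc a ha, h.pow_p_of_mem hPmax.1 ha⟩
      rw [hPdef, ← hPS] at hle ⊢
      exact (PS.is_maximal' (isPGroup_pCent p e') hle).symm
    have hvN : v ∈ normalizer (P : Set G) := Coprime.mem_normalizer_of_forall_conj fun a ha => by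
      rw [hPe] at ha ⊢
      exact h.conj_mem_pCent hr S h4 heo (Or.inl (mul_inv_eq_iff_eq_mul.2 hev.eq.symm)) ha
    -- modulo `P` the Sylow 2-subgroup is normal in the normaliser
    set N := normalizer (P : Set G) with hN
    set P' := P.subgroupOf N with hP'
    haveI hP'n : P'.Normal := Subgroup.normal_subgroupOf_of_le_normalizer le_rfl
    obtain ⟨T, hT⟩ := Orders2P.sylow_subgroupOf S hPmax.2.1
    set f := QuotientGroup.mk' P' with hf
    have hsolv : Group.IsSolvable (N ⧸ P') := EPPO21.isSolvable_of_le_two (by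
      refine (Finset.card_le_card (t := ({2, q} : Finset ℕ)) fun r hr' => ?_).trans Finset.card_le_two
      have hrp := Nat.prime_of_mem_primeFactors hr'
      have hrd := Nat.dvd_of_mem_primeFactors hr'
      rcases h.prime_cases hrp ((hrd.trans P'.card_quotient_dvd_card).trans
        N.card_subgroup_dvd_card) with rfl | rfl | rfl
      · simp
      · exfalso
        refine PS.not_dvd_index (hrd.trans ?_)
        rw [hPS]
        change P'.index ∣ _
        rw [hP', ← hPdef]
        exact Dvd.intro _ (Subgroup.relIndex_mul_index (Subgroup.le_normalizer : P ≤ N))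
      · simp)
    have hcore : Cfsg.pPrimeCore 2 (N ⧸ P') = ⊥ := by
      rw [PCore.pPrimeCore_eq_bot_iff]
      intro A hA hco
      set K := A.comap f with hK
      haveI : K.Normal := hA.comap f
      set K' := K.map N.subtype with hK'
      have hK'odd : Odd (Nat.card K') := by
        rw [Subgroup.card_map_of_injective N.subtype_injective]
        have h1 : Nat.card K = Nat.card A * Nat.card P' := PCore.card_comap_mk' P' A |>.trans (by ring)
        rw [h1]
        refine Odd.mul (Nat.coprime_two_right.1 hco) ?_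
        rw [Nat.card_congr (Subgroup.subgroupOfEquivOfLe (Subgroup.le_normalizer : P ≤ N)).toEquiv]
        obtain ⟨i, hi⟩ := hPmax.1.exists_card_eq
        rw [hi]; exact (h.prime_p.odd_of_ne_two h.p_ne_two).pow
      have hK'p : IsPGroup p K' := h.isPGroup_of_invariant S hK'odd fun b hb =>
        Coprime.mem_normalizer_of_forall_conj (by
          rintro _ ⟨x, hx, rfl⟩
          exact ⟨⟨b, hPmax.2.1 hb⟩ * x * ⟨b, hPmax.2.1 hb⟩⁻¹,
            (inferInstance : K.Normal).conj_mem x hx _, by simp⟩)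
      have hPK : P ≤ K' := fun a ha => ⟨⟨a, Subgroup.le_normalizer ha⟩, by
        show f ⟨a, Subgroup.le_normalizer ha⟩ ∈ A
        rw [hf, QuotientGroup.mk'_apply, (QuotientGroup.eq_one_iff _).2 (show _ ∈ P' from ha)]
        exact one_mem _, rfl⟩
      rw [eq_bot_iff]
      intro a ha
      obtain ⟨x, rfl⟩ := QuotientGroup.mk'_surjective P' a
      have hxK : (x : G) ∈ K' := ⟨x, ha, rfl⟩
      have hKP : K' ≤ P := by
        rw [hPdef, ← hPS] at hPK ⊢
        exact (PS.is_maximal' hK'p hPK).le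
      exact Subgroup.mem_bot.2 ((QuotientGroup.eq_one_iff x).2 (hKP hxK))
    haveI := hsolv
    have hTn : ((T : Subgroup N).map f).Normal := by
      have h1 := normal_sylow_of_pPrimeCore (T.mapSurjective (QuotientGroup.mk'_surjective P'))
        (fun a ha b hb => by
          rw [Sylow.coe_mapSurjective] at ha hb
          obtain ⟨a, ha', rfl⟩ := ha
          obtain ⟨b, hb', rfl⟩ := hb
          rw [← map_mul, ← map_mul, show a * b = b * a from Subtype.ext
            (h.comm_of_two (T.2.map N.subtype) ⟨a, ha', rfl⟩ ⟨b, hb', rfl⟩).eq]) hcore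
      rwa [Sylow.coe_mapSurjective] at h1
    have hTP : ((T : Subgroup N) ⊔ P').Normal := by
      have h1 := hTn.comap f
      rwa [Subgroup.comap_map_eq, QuotientGroup.ker_mk'] at h1
    obtain ⟨m, hm, b, hb, hmb⟩ := exists_conj_mem_sylow T hvN (k := 1)
      (by rw [pow_one, pow_two, sq_of_two hv])
    have hvmem : (⟨v, hvN⟩ : N) ∈ (T : Subgroup N) ⊔ P' := by
      have h1 := hTP.conj_mem b (mem_sup_left hb) (⟨m, hm⟩ : N)⁻¹
      have h2 : (⟨m, hm⟩ : N)⁻¹ * b * (⟨m, hm⟩ : N)⁻¹⁻¹ = ⟨v, hvN⟩ := Subtype.ext (by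
        simp only [Subgroup.coe_mul, Subgroup.coe_inv, inv_inv, ← hmb]; group)
      rwa [h2] at h1
    obtain ⟨r, hrT, x, hx, hrx⟩ := mem_sup_of_normal_right.1 hvmem
    rw [hT, mem_subgroupOf] at hrT
    have hv' : v = (r : G) * x := (congrArg Subtype.val hrx).symm
    have hfix : (r : G) * e' * (r : G)⁻¹ = e' := by
      have h1 : v * e' * v⁻¹ = e' := mul_inv_eq_iff_eq_mul.2 hev.eq.symm
      have h2 : (x : G) * e' * (x : G)⁻¹ = e' := mul_inv_eq_iff_eq_mul.2 (hPc x hx).eq
      rwa [hv', show (r : G) * x * e' * ((r : G) * x)⁻¹ = r * (x * e' * (x : G)⁻¹) * (r : G)⁻¹ by group,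
        h2] at h1
    rw [he', show (r : G) * (w * g) * (r : G)⁻¹ = (r * w * (r : G)⁻¹) * (r * g * (r : G)⁻¹) by group]
      at hfix
    by_cases hr1 : (r : G) = 1
    · rw [hr1, one_mul] at hv'
      have := h.pow_p_of_mem hPmax.1 (hv' ▸ hx : v ∈ P)
      rw [← orderOf_dvd_iff_pow_eq_one, hv] at this
      exact h.p_ne_two ((Nat.prime_dvd_prime_iff_eq Nat.prime_two h.prime_p).1 this).symm
    by_cases hrt : (r : G) = t
    · rw [hrt, htw, htg] at hfix
      exact h.not_fix_inv hgo (mul_left_cancel hfix).symm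
    have hrw : (r : G) * w * (r : G)⁻¹ = w⁻¹ := hinv t r htS hrT ht hr1 hrt w hw
    by_cases hrs : (r : G) = s
    · rw [hrs, hsw, hsg] at hfix
      exact h.not_fix_inv hwo (mul_right_cancel hfix).symm
    have hrg : (r : G) * g * (r : G)⁻¹ = g⁻¹ := hinv s r hs hrT hs2 hr1 hrs g hgW
    rw [hrw, hrg, ← mul_inv_rev, ← hwg.eq] at hfix
    exact h.not_fix_inv heo hfix.symm
  have hPodd : Odd (Nat.card P) := by
    obtain ⟨i, hi⟩ := hPmax.1.exists_card_eq
    rw [hi]; exact (h.prime_p.odd_of_ne_two h.p_ne_two).pow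
  have hPW : P ≤ pPart p t := h.le_of_fixed S hPodd hPmax.2.1 fun r hrS hr2 x hx hc => by
    by_cases hrt : r = t
    · exact (h.mem_pPart hr ht).2 ⟨hrt ▸ hc, h.pow_p_of_mem hPmax.1 hx⟩
    · rw [hgfix r hrS hr2 hrt x hx hc]; exact one_mem _
  intro c hc
  have hidx := (h.index_pCore_centralizer hr S h4 hwo).1
  have hcw : Commute c w := mem_centralizer_singleton_iff.1 hc
  set C := centralizer ({w} : Set G) with hC
  have htC : t ∈ C :=
    mem_centralizer_singleton_iff.2 ((h.mem_pPart hr ht).1 hw).1.eq.symm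
  have key : ∀ x : C, x ∈ Cfsg.pCore p C → (x : G) ∈ centralizer ({t} : Set G) := fun x hx =>
    pPart_le p t (hPW ⟨x, hx, rfl⟩)
  by_cases hcK : (⟨c, hc⟩ : C) ∈ Cfsg.pCore p C
  · exact key _ hcK
  · have htK : (⟨t, htC⟩ : C) ∉ Cfsg.pCore p C := fun e => by
      have := h.pow_p_of_mem ((PCore.pCore_isPGroup (p := p) (G := C)).map C.subtype) ⟨_, e, rfl⟩
      rw [← orderOf_dvd_iff_pow_eq_one] at this
      simp only [Subgroup.coe_subtype, ht] at this
      exact h.p_ne_two ((Nat.prime_dvd_prime_iff_eq Nat.prime_two h.prime_p).1 this).symm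
    have h1 := key _ ((Subgroup.mul_mem_iff_of_index_two hidx (a := (⟨c, hc⟩ : C))
      (b := ⟨t, htC⟩)).2 ⟨fun e => absurd e hcK, fun e => absurd e htK⟩)
    have h2 := (centralizer ({t} : Set G)).mul_mem h1
      ((centralizer ({t} : Set G)).inv_mem (mem_centralizer_singleton_iff.2 rfl : t ∈ centralizer ({t} : Set G)))
    simpa [mul_assoc] using h2

/-- The case of a Sylow 2-subgroup of order four gives a two-dimensional linear group. -/
theorem Orders2P.exists_psl_of_real_four :
    ∃ (F : Type) (_ : Field F) (_ : Fintype F), Odd (Fintype.card F) ∧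
      Nonempty (G ≃* Matrix.ProjectiveSpecialLinearGroup (Fin 2) F) := by
  classical
  haveI := h.simple
  haveI : Fact p.Prime := ⟨h.prime_p⟩
  haveI : Fact (Nat.Prime 2) := ⟨Nat.prime_two⟩
  obtain ⟨t, htS, ht⟩ := Involutions.exists_involution_of_even_card (S : Subgroup G)
    (even_iff_two_dvd.2 (S.dvd_card_of_dvd_card h.two_dvd))
  haveI : IsKleinFour (S : Subgroup G) := by
    refine ⟨h4, ?_⟩
    haveI : Nontrivial (S : Subgroup G) := by rw [← Finite.one_lt_card_iff_nontrivial, h4]; norm_num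
    rw [Monoid.exponent_eq_prime_iff Nat.prime_two]
    exact fun g hg => two_of_sq (Subtype.ext (h.sq_of_mem S.2 g.2)) hg
  obtain ⟨w, hw, hwo⟩ := h.exists_mem_pPart hr ht
  set C := centralizer ({t} : Set G) with hC
  have hcore : Cfsg.pCore p C = Cfsg.oddCore C := by
    haveI hn1 : (Cfsg.pPrimeCore 2 C).Normal := Cfsg.pPrimeCore_normal 2 _
    refine le_antisymm (PCore.le_pPrimeCore (Cfsg.pCore_normal p _) ?_)
      (PCore.le_pCore hn1 ?_)
    · obtain ⟨i, hi⟩ := (PCore.pCore_isPGroup (p := p) (G := C)).exists_card_eq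
      rw [hi]; exact ((Nat.coprime_primes h.prime_p Nat.prime_two).2 h.p_ne_two).pow_left i
    · have h1 : IsPGroup p ((Cfsg.pPrimeCore 2 C).map C.subtype) := h.isPGroup_of_odd
        (fun x hx => h.not_q_of_two ht (mem_centralizer_singleton_iff.1 (map_subtype_le _ hx)))
        (by rw [Subgroup.card_map_of_injective C.subtype_injective]
            exact Nat.coprime_two_right.1 PCore.pPrimeCore_coprime)
      exact h1.of_equiv ((Cfsg.pPrimeCore 2 C).equivMapOfInjective _ C.subtype_injective).symm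
  have hfixW : ∀ s ∈ (S : Subgroup G), s ≠ 1 → s ≠ t → ∀ x ∈ pPart p t, Commute x s → x = 1 := by
    intro s hs hs1 hst x hx hc
    obtain ⟨hct, hxp⟩ := (h.mem_pPart hr ht).1 hx
    refine h.eq_one_of_commute_sylow hr S hxp fun r hrS => ?_
    by_cases hr1 : r = 1
    · rw [hr1]; exact Commute.one_right x
    by_cases hrt : r = t
    · rw [hrt]; exact hct
    by_cases hrs : r = s
    · rw [hrs]; exact hc
    have h3 := IsKleinFour.eq_mul_of_ne_all (x := (⟨t, htS⟩ : (S : Subgroup G))) (y := ⟨s, hs⟩)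
      (z := ⟨r, hrS⟩) (fun e => ne_one_of_two ht (congrArg Subtype.val e))
      (fun e => hs1 (congrArg Subtype.val e)) (fun e => hst (congrArg Subtype.val e).symm)
      (fun e => hr1 (congrArg Subtype.val e)) (fun e => hrt (congrArg Subtype.val e))
      (fun e => hrs (congrArg Subtype.val e))
    rw [show r = t * s from congrArg Subtype.val h3]
    exact hct.mul_right hc
  have hw1 : w ≠ 1 := fun e => by rw [e, orderOf_one] at hwo; exact h.prime_p.ne_one hwo.symm
  have hSC : (S : Subgroup G) ⊓ centralizer (pPart p t : Set G) = zpowers t := by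
    refine le_antisymm ?_ (le_inf (zpowers_le.2 htS) (zpowers_le.2
      (mem_centralizer_iff.2 fun x hx => ((h.mem_pPart hr ht).1 hx).1.eq)))
    rintro s ⟨hs, hsC⟩
    by_cases hs1 : s = 1
    · rw [hs1]; exact one_mem _
    by_cases hst : s = t
    · rw [hst]; exact mem_zpowers t
    exact absurd (hfixW s hs hs1 hst w hw (mem_centralizer_iff.1 hsC w hw)) hw1
  refine Cfsg.Agent.S0508.result S 2 le_rfl IsKleinFour.nonempty_mulEquiv t ht htS
    (fun s hs => (h.comm_sylow S hs htS).eq) (pPart p t) (by rw [pPart, hcore]) (fun _ => ?_) ?_ ?_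
  · rw [hSC]
    refine ⟨inferInstance, ?_⟩
    have h1 := ((zpowers t).subgroupOf (S : Subgroup G)).card_mul_index
    rw [Nat.card_congr (Subgroup.subgroupOfEquivOfLe (zpowers_le.2 htS)).toEquiv, Nat.card_zpowers,
      ht, h4] at h1
    show ((zpowers t).subgroupOf (S : Subgroup G)).index = 2
    omega
  · intro s hs hsC x hx
    have hs1 : s ≠ 1 := fun e => hsC (e ▸ one_mem _)
    have hst : s ≠ t := fun e => hsC (by
      rw [e]; exact mem_centralizer_iff.2 fun y hy => ((h.mem_pPart hr ht).1 hy).1.eq)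
    exact InvChar.InvolutionCores.inverts (h.sq_of_mem S.2 hs) (pPart p t)
      (fun y hy => h.conj_mem_pPart hr ht (h.comm_sylow S hs htS) hy) (hfixW s hs hs1 hst) x hx
  · intro Y hY hYne g hg
    obtain ⟨y, hy, hy1⟩ := Y.bot_or_exists_ne_one.resolve_left hYne
    have hyt : Commute y t := ((h.mem_pPart hr ht).1 (hY hy)).1
    have hyo := h.orderOf_p ((h.mem_pPart hr ht).1 (hY hy)).2 hy1
    have hle := h.centralizer_le_of_mem hr S h4 htS ht (hY hy) hy1
    set t' := g * t * g⁻¹ with ht'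
    have ht'y : Commute t' y := by
      have h1 := (((h.mem_pPart hr ht).1 (hY (Coprime.mem_normalizer_conj' hg hy))).1.map
        (MulAut.conj g).toMonoidHom).symm
      simp only [MulEquiv.coe_toMonoidHom, MulAut.conj_apply] at h1
      rwa [show g * (g⁻¹ * y * g) * g⁻¹ = y by group] at h1
    have ht'o : orderOf t' = 2 := by rw [ht', Involutions.orderOf_conj_eq, ht]
    have hc : Commute t' t :=
      mem_centralizer_singleton_iff.1 (hle (mem_centralizer_singleton_iff.2 ht'y.eq))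
    by_cases hne : t' = t
    · exact mem_centralizer_singleton_iff.2 (mul_inv_eq_iff_eq_mul.1 hne)
    · exfalso
      -- `⟨t, t'⟩` is a four group in `C(y)`
      set Cy := centralizer ({y} : Set G) with hCy
      have hidx := (h.index_pCore_centralizer hr S h4 hyo).1
      have hmem : ∀ u : G, orderOf u = 2 → ∀ hu : Commute u y,
          (⟨u, mem_centralizer_singleton_iff.2 hu.eq⟩ : Cy) ∉ Cfsg.pCore p Cy := by
        intro u hu2 hu e
        have := h.pow_p_of_mem ((PCore.pCore_isPGroup (p := p) (G := Cy)).map Cy.subtype) ⟨_, e, rfl⟩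
        rw [← orderOf_dvd_iff_pow_eq_one] at this
        simp only [Subgroup.coe_subtype, hu2] at this
        exact h.p_ne_two ((Nat.prime_dvd_prime_iff_eq Nat.prime_two h.prime_p).1 this).symm
      have h1 := (Subgroup.mul_mem_iff_of_index_two hidx
        (a := (⟨t', mem_centralizer_singleton_iff.2 ht'y.eq⟩ : Cy))
        (b := ⟨t, mem_centralizer_singleton_iff.2 hyt.eq.symm⟩)).2
        ⟨fun e => absurd e (hmem t' ht'o ht'y), fun e => absurd e (hmem t ht hyt.symm)⟩
      have h2 : (t' * t) ^ p = 1 := h.pow_p_of_mem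
        ((PCore.pCore_isPGroup (p := p) (G := Cy)).map Cy.subtype) ⟨_, h1, rfl⟩
      have h3 : (t' * t) ^ 2 = 1 := by
        rw [hc.mul_pow, pow_two, pow_two, sq_of_two ht'o, sq_of_two ht, one_mul]
      have h4' := pow_gcd_eq_one.2 ⟨h2, h3⟩
      rw [show Nat.gcd p 2 = 1 from (Nat.coprime_primes h.prime_p Nat.prime_two).2 h.p_ne_two,
        pow_one] at h4'
      exact hne (by rw [eq_inv_of_mul_eq_one_left h4', inv_of_two ht])

/-- The real case with a Sylow 2-subgroup of order four is impossible. -/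
theorem Orders2P.false_of_real_four : False := by
  classical
  obtain ⟨F, iF, iFt, hodd, ⟨e⟩⟩ := h.exists_psl_of_real_four hr S h4
  set q₀ := Fintype.card F with hq₀
  obtain ⟨r, hr'⟩ := CharP.exists F
  haveI := hr'
  obtain ⟨n, hrp, hn⟩ := FiniteField.card F r
  rw [← hq₀] at hn
  have hq2 : 2 ≤ q₀ := Fintype.one_lt_card
  have hr2 : r ≠ 2 := by
    intro e2
    rw [hn, e2] at hodd
    exact Nat.not_even_iff_odd.2 hodd (Nat.even_pow.2 ⟨even_two, n.pos.ne'⟩)
  obtain ⟨b, hb⟩ : ∃ b, q₀ + 1 = 2 * b := ⟨(q₀ + 1) / 2, by obtain ⟨k, hk⟩ := hodd; omega⟩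
  obtain ⟨a, ha⟩ : ∃ a, q₀ - 1 = 2 * a := ⟨(q₀ - 1) / 2, by obtain ⟨k, hk⟩ := hodd; omega⟩
  have hcard : 2 * Nat.card G = (q₀ + 1) * (q₀ * (q₀ - 1)) := by
    rw [Nat.card_congr e.toEquiv, ← PSL2.card_psl (F := F),
      show Nat.gcd 2 (Fintype.card F - 1) = 2 from Nat.gcd_eq_left ⟨a, ha⟩]
  have hdiv : ∀ m : ℕ, (∃ g : Matrix.ProjectiveSpecialLinearGroup (Fin 2) F, 2 * m ∣ 2 * orderOf g) →
      ∃ g : G, m ∣ orderOf g := by
    rintro m ⟨g, hg⟩
    exact ⟨e.symm g, by rw [MulEquiv.orderOf_eq]; exact (Nat.mul_dvd_mul_iff_left two_pos).1 hg⟩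
  obtain ⟨gb, hgb⟩ := hdiv b (hb ▸ EPPO21.exists_psl_dvd_orderOf_add (F := F) hodd)
  obtain ⟨ga, hga⟩ := hdiv a (ha ▸ EPPO21.exists_psl_dvd_orderOf_sub (F := F))
  have hab : b = a + 1 := by omega
  have hrq : r = p ∨ r = q := by
    have hrd : r ∣ 2 * Nat.card G := by
      rw [hcard]
      exact dvd_mul_of_dvd_right (dvd_mul_of_dvd_left
        (hn ▸ dvd_pow_self r n.pos.ne' : r ∣ q₀) _) _
    rcases hrp.dvd_mul.1 hrd with e2 | e2
    · exact absurd ((Nat.prime_dvd_prime_iff_eq hrp Nat.prime_two).1 e2) hr2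
    · rcases h.prime_cases hrp e2 with e3 | e3 | e3
      exacts [absurd e3 hr2, Or.inl e3, Or.inr e3]
  have hnd : ∀ m : ℕ, m = a ∨ m = b → ¬ r ∣ m := by
    intro m hm hd
    have hq0 : r ∣ q₀ := hn ▸ dvd_pow_self r n.pos.ne'
    have h2m : r ∣ 2 * m := hd.mul_left 2
    rcases hm with rfl | rfl
    · rw [← ha] at h2m
      have := Nat.dvd_sub hq0 h2m
      rw [show q₀ - (q₀ - 1) = 1 by omega] at this
      exact hrp.not_dvd_one this
    · rw [← hb] at h2m
      have := Nat.dvd_sub h2m hq0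
      rw [show q₀ + 1 - q₀ = 1 by omega] at this
      exact hrp.not_dvd_one this
  -- a divisor of an element order is among the element orders
  have hcases : ∀ m : ℕ, ∀ g : G, m ∣ orderOf g → m = 1 ∨ m = 2 ∨ m = p ∨ m = q ∨ m = 2 * p := by
    intro m g hd
    obtain ⟨x, hx⟩ := exists_orderOf_of_dvd hd
    exact hx ▸ h.ord x
  -- the even one among `a` and `b` is two
  have key : ∀ x y : ℕ, (x = a ∧ y = b) ∨ (x = b ∧ y = a) → Even x →
      (x = 1 ∨ x = 2 ∨ x = p ∨ x = q ∨ x = 2 * p) → (y = 1 ∨ y = 2 ∨ y = p ∨ y = q ∨ y = 2 * p) →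
      x = 2 := by
    intro x y hxy hxe hx hy
    have hyo : y % 2 = 1 := by rw [Nat.even_iff] at hxe; omega
    have hx2 : x % 2 = 0 := Nat.even_iff.1 hxe
    have hpo := Nat.odd_iff.1 (h.prime_p.odd_of_ne_two h.p_ne_two)
    have hqo := Nat.odd_iff.1 (h.prime_q.odd_of_ne_two h.q_ne_two)
    have hp3 : 3 ≤ p := by have := h.prime_p.two_le; omega
    rcases hx with e2 | e2 | e2 | e2 | e2
    · omega
    · exact e2
    · omega
    · omega
    · exfalso
      have hrp' : r ≠ p := fun e3 => hnd x (by omega) (e3.symm ▸ e2.symm ▸ dvd_mul_left p 2)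
      have hrq' : r = q := hrq.resolve_left hrp'
      rcases hy with e3 | e3 | e3 | e3 | e3
      · omega
      · omega
      · omega
      · exact hnd y (by omega) (by rw [hrq', e3])
      · omega
  have hA := hcases a ga hga
  have hB := hcases b gb hgb
  have hsmall : q₀ = 3 ∨ q₀ = 5 := by
    rcases Nat.even_or_odd a with hae | hao
    · have := key a b (Or.inl ⟨rfl, rfl⟩) hae hA hB; omega
    · have := key b a (Or.inr ⟨rfl, rfl⟩) (by rw [Nat.even_iff]; rw [Nat.odd_iff] at hao; omega) hB hA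
      omega
  obtain ⟨g, hg⟩ := h.mixed
  rcases hsmall with e3 | e5
  · rw [e3] at hcard
    have hG : Nat.card G = 12 := by omega
    refine h.not_solvable (EPPO21.isSolvable_of_le_two ?_)
    rw [hG]
    decide +kernel
  · rw [e5] at hcard
    have hG : Nat.card G = 60 := by omega
    haveI := h.simple
    obtain ⟨e'⟩ := Small.nonempty_mulEquiv_alternating_five hG
    have hgo : orderOf (e' g) = 2 * p := (MulEquiv.orderOf_eq e' g).trans hg
    have hp3 : 3 ≤ p := by
      have := h.prime_p.two_le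
      have := h.p_ne_two
      omega
    rcases PSL2.alt_five_spectrum (e' g) with e2 | e2 | e2 <;>
      have h1 := orderOf_dvd_of_pow_eq_one e2 <;> rw [hgo] at h1
    · have := Nat.le_of_dvd two_pos h1; omega
    · have := Nat.le_of_dvd (by norm_num) h1; omega
    · have := Nat.le_of_dvd (by norm_num) h1; omega

end CfsgLib.AutOrbits
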