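import Cfsg.Agent.Lib.AutOrbits.NonReal
import Cfsg.Agent.Lib.AutOrbits.RealBig
import Cfsg.Agent.Lib.AutOrbits.RealFour
import Cfsg.Agent.Lib.EPPO21.NoThree
import Cfsg.Agent.Lib.StrongEmbedding.PSLTwo
import Cfsg.Agent.S3396
import Cfsg.Agent.S3433

/-!
# Simple groups with at most five automorphism orbits

Orders determine the orbits.  With an element of order 4 the orders are `1, 2, 4, p, q`; with one of
order `2p` they are `1, 2, p, q, 2p`, which is impossible; otherwise the centralisers of involutions are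
elementary abelian and the group is `PSL(2, 2ⁿ)`.
-/

set_option autoImplicit false
set_option linter.style.haveILetI false
set_option linter.unusedSectionVars false

namespace CfsgLib.AutOrbits

open Subgroup

variable {G : Type*} [Group G] [Finite G]

/-- The order of an element as a function of its automorphism orbit. -/
noncomputable def orbitOrder : MulAction.orbitRel.Quotient (MulAut G) G → ℕ := fun x =>
  Quotient.liftOn' x orderOf fun a b hab => by
    obtain ⟨φ, hφ⟩ := MulAction.mem_orbit_iff.1 (MulAction.orbitRel_apply.1 hab)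
    rw [← hφ]
    exact φ.orderOf_eq b

variable (h5 : Nat.card (MulAction.orbitRel.Quotient (MulAut G) G) ≤ 5)

include h5

theorem orders_card_le {s : Finset ℕ} (hs : ∀ n ∈ s, ∃ g : G, orderOf g = n) : s.card ≤ 5 := by
  choose f hf using hs
  refine le_trans ?_ h5
  rw [← Fintype.card_coe s, ← Nat.card_eq_fintype_card]
  refine Nat.card_le_card_of_injective
    (fun n : s => (Quotient.mk'' (f n.1 n.2) : MulAction.orbitRel.Quotient (MulAut G) G)) ?_
  intro a b e
  have e' := congrArg orbitOrder e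
  change orderOf (f a.1 a.2) = orderOf (f b.1 b.2) at e'
  rw [hf, hf] at e'
  exact Subtype.ext e'

theorem order_mem {s : Finset ℕ} (hs : ∀ n ∈ s, ∃ g : G, orderOf g = n) (hc : 5 ≤ s.card) (g : G) :
    orderOf g ∈ s := by
  by_contra hg
  have := orders_card_le h5 (s := insert (orderOf g) s) fun n hn => by
    rcases Finset.mem_insert.1 hn with rfl | hn
    · exact ⟨g, rfl⟩
    · exact hs n hn
  rw [Finset.card_insert_of_notMem hg] at this
  omega

theorem exists_aut {s : Finset ℕ} (hs : ∀ n ∈ s, ∃ g : G, orderOf g = n) (hc : 5 ≤ s.card) {a b : G}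
    (hab : orderOf a = orderOf b) : ∃ φ : MulAut G, φ a = b := by
  have hmem := order_mem h5 hs hc
  choose f hf using hs
  let F : s → MulAction.orbitRel.Quotient (MulAut G) G := fun n => Quotient.mk'' (f n.1 n.2)
  have hF : Function.Bijective F := by
    refine Function.Injective.bijective_of_nat_card_le (fun a b e => ?_) ?_
    · have e' := congrArg orbitOrder e
      change orderOf (f a.1 a.2) = orderOf (f b.1 b.2) at e'
      rw [hf, hf] at e'
      exact Subtype.ext e'
    · rw [Nat.card_eq_fintype_card (α := s), Fintype.card_coe]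
      exact h5.trans hc
  have key : ∀ x : G, F ⟨orderOf x, hmem x⟩ = Quotient.mk'' x := by
    intro x
    obtain ⟨n, hn⟩ := hF.2 (Quotient.mk'' x)
    have e' := congrArg orbitOrder hn
    change orderOf (f n.1 n.2) = orderOf x at e'
    rw [hf] at e'
    rw [← hn]
    exact congrArg F (Subtype.ext e'.symm)
  have h1 : (Quotient.mk'' b : MulAction.orbitRel.Quotient (MulAut G) G) = Quotient.mk'' a := by
    rw [← key a, ← key b]
    exact congrArg F (Subtype.ext hab.symm)
  obtain ⟨φ, hφ⟩ := MulAction.mem_orbit_iff.1 (MulAction.orbitRel_apply.1 (Quotient.eq''.1 h1))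
  exact ⟨φ, hφ⟩

omit h5 in
theorem exists_order_of_prime_dvd {r : ℕ} (hr : r.Prime) (hd : r ∣ Nat.card G) :
    ∃ g : G, orderOf g = r :=
  haveI : Fact r.Prime := ⟨hr⟩
  exists_prime_orderOf_dvd_card' r hd

variable [IsSimpleGroup G] (hG : ¬ IsMulCommutative G)

include hG

omit h5 in
theorem three_le_primes : 3 ≤ (Nat.card G).primeFactors.card := by
  by_contra hlt
  haveI := EPPO21.isSolvable_of_le_two (X := G) (by omega)
  exact hG ⟨⟨IsSimpleGroup.comm_iff_isSolvable.2 inferInstance⟩⟩

omit h5 in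
theorem exists_odd_primes : ∃ p q : ℕ, p.Prime ∧ q.Prime ∧ p ≠ 2 ∧ q ≠ 2 ∧ p ≠ q ∧
    p ∣ Nat.card G ∧ q ∣ Nat.card G := by
  have h3 := three_le_primes hG
  have h1 : 1 < ((Nat.card G).primeFactors.erase 2).card := by
    have := Finset.pred_card_le_card_erase (a := 2) (s := (Nat.card G).primeFactors)
    omega
  obtain ⟨p, hp, q, hq, hpq⟩ := Finset.one_lt_card.1 h1
  rw [Finset.mem_erase] at hp hq
  exact ⟨p, q, Nat.prime_of_mem_primeFactors hp.2, Nat.prime_of_mem_primeFactors hq.2, hp.1, hq.1, hpq,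
    Nat.dvd_of_mem_primeFactors hp.2, Nat.dvd_of_mem_primeFactors hq.2⟩

/-- No element order is twice an odd prime. -/
theorem not_mixed {r : ℕ} (hr : r.Prime) (hr2 : r ≠ 2) (g : G) : orderOf g ≠ 2 * r := by
  intro hg
  obtain ⟨p₁, q₁, hp₁, hq₁, hp₁2, hq₁2, hne, hdp, hdq⟩ := exists_odd_primes hG
  obtain ⟨q, hq, hq2, hqr, hdq'⟩ : ∃ q : ℕ, q.Prime ∧ q ≠ 2 ∧ r ≠ q ∧ q ∣ Nat.card G := by
    by_cases e : r = p₁
    · exact ⟨q₁, hq₁, hq₁2, e ▸ hne, hdq⟩
    · exact ⟨p₁, hp₁, hp₁2, e, hdp⟩
  have h2 : 2 ∣ Nat.card G := (dvd_mul_right 2 r).trans (hg ▸ orderOf_dvd_natCard g)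
  have hr3 : 3 ≤ r := by have := hr.two_le; omega
  have hq3 : 3 ≤ q := by have := hq.two_le; omega
  have hq2r : q ≠ 2 * r := fun e => by
    have := Nat.odd_iff.1 (hq.odd_of_ne_two hq2)
    omega
  have hs : ∀ n ∈ ({1, 2, r, q, 2 * r} : Finset ℕ), ∃ x : G, orderOf x = n := by
    intro n hn
    simp only [Finset.mem_insert, Finset.mem_singleton] at hn
    rcases hn with rfl | rfl | rfl | rfl | rfl
    · exact ⟨1, orderOf_one⟩
    · exact exists_order_of_prime_dvd Nat.prime_two h2
    · exact exists_orderOf_of_dvd (hg ▸ dvd_mul_left n 2)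
    · exact exists_order_of_prime_dvd hq hdq'
    · exact ⟨g, hg⟩
  have hc : 5 ≤ ({1, 2, r, q, 2 * r} : Finset ℕ).card := by
    repeat rw [Finset.card_insert_of_notMem]
    · simp
    all_goals simp only [Finset.mem_insert, Finset.mem_singleton]
    all_goals omega
  have hO : Orders2P G r q :=
    { simple := inferInstance, nonComm := hG, prime_p := hr, prime_q := hq, p_ne_two := hr2,
      q_ne_two := hq2, p_ne_q := hqr,
      ord := fun x => by simpa using order_mem h5 hs hc x,
      mixed := ⟨g, hg⟩,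
      trans := fun a b hab => exists_aut h5 hs hc hab }
  by_cases hreal : Real G r
  · obtain ⟨S⟩ := (inferInstance : Nonempty (Sylow 2 G))
    haveI : Fact (Nat.Prime 2) := ⟨Nat.prime_two⟩
    obtain ⟨k, hk⟩ := S.2.exists_card_eq
    have h4 := hO.four_le S
    by_cases hk2 : k ≤ 2
    · exact hO.false_of_real_four hreal S (by
        rw [hk] at h4 ⊢
        interval_cases k <;> omega)
    · exact hO.false_of_real_big hreal S (by
        rw [hk]
        calc 8 = 2 ^ 3 := by norm_num
          _ ≤ 2 ^ k := Nat.pow_le_pow_right two_pos (by omega))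
  · refine hO.false_of_nonReal fun y u hy hu huy => hreal fun y' hy' => ?_
    obtain ⟨φ, hφ⟩ := hO.trans y y' (hy.trans hy'.symm)
    refine ⟨φ u, (φ.orderOf_eq u).trans hu, ?_⟩
    rw [← hφ, ← map_inv, ← map_mul, ← map_mul, huy, map_inv]

/-- The case of an element of order four. -/
theorem of_four {g : G} (hg : orderOf g = 4) :
    Nonempty (G ≃* ↥(alternatingGroup (Fin 5))) ∨ Nonempty (G ≃* ↥(alternatingGroup (Fin 6))) ∨
      (∃ (F : Type) (_ : Field F) (_ : Fintype F), (Fintype.card F = 7 ∨ Fintype.card F = 8) ∧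
        Nonempty (G ≃* Matrix.ProjectiveSpecialLinearGroup (Fin 2) F)) := by
  obtain ⟨p, q, hp, hq, hp2, hq2, hne, hdp, hdq⟩ := exists_odd_primes hG
  have hp3 : 3 ≤ p := by have := hp.two_le; omega
  have hq3 : 3 ≤ q := by have := hq.two_le; omega
  have hp4 : p ≠ 4 := fun e => by rw [e] at hp; norm_num at hp
  have hq4 : q ≠ 4 := fun e => by rw [e] at hq; norm_num at hq
  have hs : ∀ n ∈ ({1, 2, 4, p, q} : Finset ℕ), ∃ x : G, orderOf x = n := by
    intro n hn
    simp only [Finset.mem_insert, Finset.mem_singleton] at hn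
    rcases hn with rfl | rfl | rfl | rfl | rfl
    · exact ⟨1, orderOf_one⟩
    · exact exists_orderOf_of_dvd (g := g) (hg ▸ by norm_num)
    · exact ⟨g, hg⟩
    · exact exists_order_of_prime_dvd hp hdp
    · exact exists_order_of_prime_dvd hq hdq
  have hc : 5 ≤ ({1, 2, 4, p, q} : Finset ℕ).card := by
    repeat rw [Finset.card_insert_of_notMem]
    · simp
    all_goals simp only [Finset.mem_insert, Finset.mem_singleton]
    all_goals omega
  have hord : ∀ x : G, orderOf x = 1 ∨ orderOf x = 2 ∨ orderOf x = 4 ∨ orderOf x = p ∨ orderOf x = q :=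
    fun x => by simpa using order_mem h5 hs hc x
  have hHyp : EPPO21.Hyp G := fun x hx => by
    rcases hord x with e | e | e | e | e
    · exact Or.inl ⟨0, by simpa using e⟩
    · exact Or.inl ⟨1, by simpa using e⟩
    · exact Or.inl ⟨2, by simpa using e⟩
    · exact Or.inr (e ▸ hp)
    · exact Or.inr (e ▸ hq)
  by_cases hno5 : p ≠ 5 ∧ q ≠ 5
  · haveI : Fact (Nat.Prime 7) := ⟨by norm_num⟩
    have h7 : Fintype.card (ZMod 7) = 7 := ZMod.card 7
    refine Or.inr (Or.inr ⟨ZMod 7, inferInstance, inferInstance, Or.inl h7, ?_⟩)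
    refine Cfsg.Agent.S3396.result h7 (three_le_primes hG) fun x hx => ?_
    rcases hHyp x hx with e | e
    · exact Or.inl e
    · refine Or.inr ⟨e, fun e5 => ?_⟩
      rcases hord x with e' | e' | e' | e' | e' <;> omega
  by_cases h35 : p = 3 ∨ q = 3
  · have hrange : Set.range (orderOf : G → ℕ) = {k : ℕ | 1 ≤ k ∧ k ≤ 5} := by
      ext k
      constructor
      · rintro ⟨x, rfl⟩
        refine ⟨orderOf_pos x, ?_⟩
        rcases hord x with e | e | e | e | e <;> omega
      · rintro ⟨h1, h2⟩
        refine hs k ?_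
        simp only [Finset.mem_insert, Finset.mem_singleton]
        omega
    rcases Cfsg.Agent.S3433.result hrange with h6 | ⟨N, hN, -, ⟨e⟩⟩
    · exact Or.inr (Or.inl h6)
    · refine Or.inl ?_
      rcases hN.eq_bot_or_eq_top with rfl | rfl
      · exact ⟨(QuotientGroup.quotientBot (G := G)).symm.trans e⟩
      · exfalso
        have h1 : Nat.card (G ⧸ (⊤ : Subgroup G)) = 1 := Subgroup.index_top
        rw [Nat.card_congr e.toEquiv] at h1
        haveI : Nontrivial ↥(alternatingGroup (Fin 5)) := alternatingGroup.nontrivial_of_three_le_card (by simp)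
        exact absurd h1 (Finite.one_lt_card).ne'
  exfalso
  have h3 : ¬ 3 ∣ Nat.card G := by
    intro hd
    obtain ⟨x, hx⟩ := exists_order_of_prime_dvd Nat.prime_three hd
    rcases hord x with e | e | e | e | e <;> omega
  have hle : (Nat.card G).primeFactors.card ≤ 3 := by
    refine (Finset.card_le_card (t := ({2, p, q} : Finset ℕ)) fun r hr => ?_).trans Finset.card_le_three
    have hrp := Nat.prime_of_mem_primeFactors hr
    obtain ⟨x, hx⟩ := exists_order_of_prime_dvd hrp (Nat.dvd_of_mem_primeFactors hr)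
    simp only [Finset.mem_insert, Finset.mem_singleton]
    have := hrp.two_le
    have : r ≠ 4 := fun e => by rw [e] at hrp; norm_num at hrp
    rcases hord x with e | e | e | e | e <;> omega
  have := EPPO21.card_primeFactors_le_two_of_not_three (Nat.card G) G rfl hHyp h3 hle
  have := three_le_primes hG
  omega

/-- Groups with at most five orbits. -/
theorem classification :
    Nonempty (G ≃* ↥(alternatingGroup (Fin 5))) ∨ Nonempty (G ≃* ↥(alternatingGroup (Fin 6))) ∨
      (∃ (F : Type) (_ : Field F) (_ : Fintype F), (Fintype.card F = 7 ∨ Fintype.card F = 8) ∧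
        Nonempty (G ≃* Matrix.ProjectiveSpecialLinearGroup (Fin 2) F)) := by
  classical
  by_cases h4 : ∃ g : G, orderOf g = 4
  · obtain ⟨g, hg⟩ := h4
    exact of_four h5 hG hg
  push Not at h4
  haveI : Fact (Nat.Prime 2) := ⟨Nat.prime_two⟩
  have heven : ∀ g : G, 2 ∣ orderOf g → orderOf g = 2 := by
    intro g hd
    obtain ⟨k, hk⟩ := hd
    by_contra hne
    have hk1 : k ≠ 1 := fun e => hne (by rw [hk, e])
    obtain ⟨r, hr, hrk⟩ := Nat.exists_prime_and_dvd hk1
    obtain ⟨x, hx⟩ := exists_orderOf_of_dvd (g := g) (d := 2 * r) (hk ▸ Nat.mul_dvd_mul_left 2 hrk)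
    by_cases hr2 : r = 2
    · exact h4 x (by rw [hx, hr2])
    · exact not_mixed h5 hG hr hr2 x hx
  have hcent : ∀ t : G, orderOf t = 2 → ∀ c ∈ centralizer ({t} : Set G), c ^ 2 = 1 := by
    intro t ht c hc
    have hct : Commute c t := mem_centralizer_singleton_iff.1 hc
    rw [← orderOf_dvd_iff_pow_eq_one]
    by_cases hd : 2 ∣ orderOf c
    · rw [heven c hd]
    · by_cases hc1 : orderOf c = 1
      · rw [hc1]; exact one_dvd _
      · exfalso
        have hcop : (orderOf c).Coprime (orderOf t) := by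
          rw [ht, Nat.coprime_comm, Nat.prime_two.coprime_iff_not_dvd]; exact hd
        have he := hct.orderOf_mul_eq_mul_orderOf_of_coprime hcop
        have h2 := heven (c * t) (he ▸ ht ▸ dvd_mul_left _ _)
        rw [he, ht] at h2
        omega
  obtain ⟨T⟩ := (inferInstance : Nonempty (Sylow 2 G))
  have h3 := three_le_primes hG
  have hH : StrongEmbedding.ElementaryCentralizers.Hyp T := by
    refine ⟨SelfCentralSimple.not_isCyclic_sylow hG (SelfCentralSimple.minFac_eq_two hG) T,
      fun hn => ?_, fun t ht => ⟨⟨⟨fun a b => Subtype.ext ?_⟩⟩, hcent t ht⟩⟩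
    · rcases hn.eq_bot_or_eq_top with e | e
      · exact T.ne_bot_of_dvd_card (SelfCentralSimple.even_card hG) e
      · obtain ⟨k, hk⟩ := T.2.exists_card_eq
        rw [e, Subgroup.card_top] at hk
        rw [hk] at h3
        rcases Nat.eq_zero_or_pos k with rfl | hk0
        · simp at h3
        · rw [Nat.primeFactors_prime_pow hk0.ne' Nat.prime_two, Finset.card_singleton] at h3
          omega
    · have ha := inv_eq_of_mul_eq_one_right ((pow_two (a : G)) ▸ hcent t ht a a.2)
      have hb := inv_eq_of_mul_eq_one_right ((pow_two (b : G)) ▸ hcent t ht b b.2)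
      have hab := inv_eq_of_mul_eq_one_right ((pow_two ((a : G) * b)) ▸
        hcent t ht _ ((centralizer ({t} : Set G)).mul_mem a.2 b.2))
      calc (a : G) * b = ((a : G) * b)⁻¹ := hab.symm
        _ = (b : G)⁻¹ * (a : G)⁻¹ := mul_inv_rev _ _
        _ = b * a := by rw [ha, hb]
  obtain ⟨F, iF, iFt, hF, ⟨e⟩⟩ := StrongEmbedding.PSLTwo.exists_psl hH
  obtain ⟨a, ha⟩ := T.2.exists_card_eq
  have h4T := StrongEmbedding.ElementaryCentralizers.four_le_card hH
  rw [ha] at hF h4T
  have ha2 : 2 ≤ a := by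
    by_contra hlt
    interval_cases a <;> omega
  rcases (show a = 2 ∨ a = 3 ∨ 4 ≤ a by omega) with rfl | rfl | ha4
  · refine Or.inl (Small.nonempty_mulEquiv_alternating_five ?_)
    have hc := PSL2.card_psl (F := F)
    rw [← Nat.card_congr e.toEquiv, hF] at hc
    norm_num at hc
    omega
  · exact Or.inr (Or.inr ⟨F, iF, iFt, Or.inr (by rw [hF]; norm_num), ⟨e⟩⟩)
  exfalso
  haveI : CharP F 2 := charP_of_card_eq_prime_pow (p := 2) (f := a) hF
  set q := Fintype.card F with hq
  have hq16 : 16 ≤ q := by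
    rw [hF]
    calc 16 = 2 ^ 4 := by norm_num
      _ ≤ 2 ^ a := Nat.pow_le_pow_right two_pos ha4
  have hinj : Function.Injective
      (QuotientGroup.mk' (Subgroup.center (Matrix.SpecialLinearGroup (Fin 2) F))) := by
    rw [← MonoidHom.ker_eq_bot_iff, QuotientGroup.ker_mk']
    exact StrongEmbedding.PSLTwo.center_sl_two_eq_bot
  have hex : ∀ A : Matrix.SpecialLinearGroup (Fin 2) F, ∀ m : ℕ, m ∣ orderOf A →
      ∃ x : G, orderOf x = m := fun A m hm => exists_orderOf_of_dvd
    (g := e.symm (QuotientGroup.mk' (Subgroup.center (Matrix.SpecialLinearGroup (Fin 2) F)) A))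
    (by erw [MulEquiv.orderOf_eq, orderOf_injective _ hinj]; exact hm)
  obtain ⟨A, hA1, hA⟩ := SpecLin.PSLOrders.exists_singer (F := F) (d := 2) (by norm_num)
  obtain ⟨B, hB⟩ := EPPO21.exists_sl_orderOf_sub_one (F := F)
  have hcyc : SpecLin.PSLOrders.cyc q 2 = q + 1 := by
    simp [SpecLin.PSLOrders.cyc, Finset.sum_range_succ, add_comm]
  let A' : Matrix.SpecialLinearGroup (Fin 2) F := ⟨A, hA1⟩
  have hA' : orderOf A' = q + 1 := by
    rw [← hcyc, ← hA]
    exact (orderOf_injective
      (⟨⟨fun X => (X : Matrix (Fin 2) (Fin 2) F), rfl⟩, fun _ _ => rfl⟩ :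
        Matrix.SpecialLinearGroup (Fin 2) F →* Matrix (Fin 2) (Fin 2) F)
      Subtype.val_injective A').symm
  have hq0 : q % 2 = 0 := by
    rw [hF, Nat.pow_mod]; simp [show a ≠ 0 by omega]
  have hq3 : q % 3 ≠ 0 := fun e3 => by
    have h1 : 3 ∣ 2 ^ a := hF ▸ Nat.dvd_of_mod_eq_zero e3
    have := (Nat.prime_dvd_prime_iff_eq Nat.prime_three Nat.prime_two).1
      (Nat.prime_three.dvd_of_dvd_pow h1)
    omega
  have hex2 : ∃ x : G, orderOf x = 2 :=
    exists_order_of_prime_dvd Nat.prime_two (SelfCentralSimple.even_card hG)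
  -- six different orders
  have hsix : ∀ k : ℕ, 3 * k = q - 1 ∨ 3 * k = q + 1 → False := by
    intro k hk
    have hk2 : k % 2 = 1 := by omega
    have hle := orders_card_le h5 (s := ({1, 2, 3, k, q - 1, q + 1} : Finset ℕ)) (by
      intro n hn
      simp only [Finset.mem_insert, Finset.mem_singleton] at hn
      rcases hn with rfl | rfl | rfl | rfl | rfl | rfl
      · exact ⟨1, orderOf_one⟩
      · exact hex2
      · rcases hk with e1 | e1
        · exact hex B 3 (hB ▸ e1 ▸ dvd_mul_right 3 k)
        · exact hex A' 3 (hA' ▸ e1 ▸ dvd_mul_right 3 k)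
      · rcases hk with e1 | e1
        · exact hex B n (hB ▸ e1 ▸ dvd_mul_left n 3)
        · exact hex A' n (hA' ▸ e1 ▸ dvd_mul_left n 3)
      · exact hex B _ hB.symm.dvd
      · exact hex A' _ hA'.symm.dvd)
    have hc : 6 ≤ ({1, 2, 3, k, q - 1, q + 1} : Finset ℕ).card := by
      repeat rw [Finset.card_insert_of_notMem]
      · simp
      all_goals simp only [Finset.mem_insert, Finset.mem_singleton]
      all_goals omega
    omega
  rcases (show q % 3 = 1 ∨ q % 3 = 2 by omega) with e3 | e3
  · exact hsix ((q - 1) / 3) (Or.inl (by omega))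
  · exact hsix ((q + 1) / 3) (Or.inr (by omega))

end CfsgLib.AutOrbits
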