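import Cfsg.Agent.Lib.AutOrbits.Basic
import Cfsg.Agent.Lib.Transfer.Basic
import Cfsg.Agent.S0346

/-!
# The mixed case with elements of order `p` inverted by no involution

The normaliser `M` of a Sylow 2-subgroup `S` is strongly embedded and has `q` involutions.  If no
element of order `p` centralises `S`, transfer gives a proper normal subgroup; otherwise the action on
the cosets of `M` is that of a Zassenhaus group of degree `1 + |C(S)|`.
-/

set_option autoImplicit false
set_option linter.style.haveILetI false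
set_option linter.unusedSectionVars false

namespace CfsgLib.AutOrbits

open Subgroup

variable {G : Type*} [Group G] [Finite G] {p q : ℕ}

/-- No element of order `p` is inverted by an involution. -/
def NonReal (G : Type*) [Group G] (p : ℕ) : Prop :=
  ∀ y u : G, orderOf y = p → orderOf u = 2 → u * y * u⁻¹ ≠ y⁻¹

/-- An involution centralises every `p`-group it normalises. -/
theorem Orders2P.commute_of_normalises (h : Orders2P G p q) (hnr : NonReal G p) {P : Subgroup G}
    (hP : IsPGroup p P) {t : G} (ht : orderOf t = 2) (hn : ∀ x ∈ P, t * x * t⁻¹ ∈ P) {x : G}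
    (hx : x ∈ P) : Commute x t := by
  set v := x⁻¹ * (t * x * t⁻¹) with hv
  have hvP : v ∈ P := P.mul_mem (P.inv_mem hx) (hn x hx)
  have htv : t * v * t⁻¹ = v⁻¹ := by
    rw [hv, inv_of_two ht, mul_inv_rev, mul_inv_rev, mul_inv_rev, inv_of_two ht, inv_inv]
    simp only [mul_assoc, sq_of_two ht, mul_one]
  by_cases hv1 : v = 1
  · have : t * x * t⁻¹ = x := by
      rw [hv, inv_mul_eq_one] at hv1; exact hv1.symm
    exact (mul_inv_eq_iff_eq_mul.1 this).symm
  · exact absurd htv (hnr v t (h.orderOf_p (h.pow_p_of_mem hP hvP) hv1) ht)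

/-- The Sylow 2-subgroup of a subgroup without elements of order `q` is normal. -/
theorem Orders2P.sylow_normal (h : Orders2P G p q) (hnr : NonReal G p) {H : Subgroup G}
    (hH : ∀ x ∈ H, orderOf x ≠ q) (T : Sylow 2 H) : (T : Subgroup H).Normal := by
  haveI : (Cfsg.pCore p H).Normal := Cfsg.pCore_normal p _
  have hn := h.normal_sup hH T
  have hcomm : ∀ a ∈ (T : Subgroup H), ∀ o ∈ Cfsg.pCore p H, Commute o a := by
    intro a ha o ho
    by_cases ha1 : a = 1
    · rw [ha1]; exact Commute.one_right o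
    have hat : orderOf (a : G) = 2 :=
      two_of_sq (h.sq_of_mem (T.2.map H.subtype) ⟨a, ha, rfl⟩) (by simpa using ha1)
    have hc := h.commute_of_normalises hnr (P := (Cfsg.pCore p H).map H.subtype)
      ((PCore.pCore_isPGroup (p := p) (G := H)).map _) hat (by
        rintro _ ⟨w, hw, rfl⟩
        exact ⟨a * w * a⁻¹, Normal.conj_mem inferInstance w hw a, by simp⟩) (x := (o : G))
      ⟨o, ho, rfl⟩
    exact Subtype.ext hc.eq
  refine ⟨fun a ha g => ?_⟩
  obtain ⟨b, hb, o, ho, hbo⟩ := mem_sup_of_normal_right.1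
    (hn.conj_mem a (mem_sup_left ha) g)
  rw [← hbo]
  have ha2 : a * a = 1 := Subtype.ext (h.sq_of_mem (T.2.map H.subtype) ⟨a, ha, rfl⟩)
  have hb2 : b * b = 1 := Subtype.ext (h.sq_of_mem (T.2.map H.subtype) ⟨b, hb, rfl⟩)
  have hop : o ^ p = 1 := Subtype.ext (by
    simpa using h.pow_p_of_mem ((PCore.pCore_isPGroup (p := p) (G := H)).map H.subtype) ⟨o, ho, rfl⟩)
  have ho2 : o ^ 2 = 1 := by
    have h1 : (b * o) * (b * o) = 1 := by
      rw [hbo, show g * a * g⁻¹ * (g * a * g⁻¹) = g * (a * a) * g⁻¹ by group, ha2]; group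
    rw [show b * o * (b * o) = b * (o * b) * o by group, (hcomm b hb o ho).eq,
      show b * (b * o) * o = b * b * (o * o) by group, hb2, one_mul, ← pow_two] at h1
    exact h1
  have ho1 : o = 1 := by
    have h3 := pow_gcd_eq_one.2 ⟨hop, ho2⟩
    rwa [show Nat.gcd p 2 = 1 from (Nat.coprime_primes h.prime_p Nat.prime_two).2 h.p_ne_two,
      pow_one] at h3
  rw [ho1, mul_one]
  exact hb

/-- A subgroup without elements of order `q` containing `S` normalises it. -/
theorem Orders2P.le_normalizer_sylow (h : Orders2P G p q) (hnr : NonReal G p) (S : Sylow 2 G)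
    {H : Subgroup G} (hH : ∀ x ∈ H, orderOf x ≠ q) (hS : (S : Subgroup G) ≤ H) :
    H ≤ normalizer ((S : Subgroup G) : Set G) := by
  obtain ⟨T, hT⟩ := Orders2P.sylow_subgroupOf S hS
  exact (Subgroup.normal_subgroupOf_iff_le_normalizer hS).1 (hT ▸ h.sylow_normal hnr hH T)

/-- Two involutions in a subgroup without elements of order `q` commute. -/
theorem Orders2P.commute_involutions (h : Orders2P G p q) (hnr : NonReal G p) {H : Subgroup G}
    (hH : ∀ x ∈ H, orderOf x ≠ q) {a b : G} (ha : a ∈ H) (hb : b ∈ H) (ha2 : a * a = 1)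
    (hb2 : b * b = 1) : Commute a b := by
  haveI : Fact (Nat.Prime 2) := ⟨Nat.prime_two⟩
  obtain ⟨T⟩ := (inferInstance : Nonempty (Sylow 2 H))
  have hn := h.sylow_normal hnr hH T
  have key : ∀ x : G, x ∈ H → x * x = 1 → x ∈ (T : Subgroup H).map H.subtype := by
    intro x hx hx2
    obtain ⟨m, hm, s, hs, hms⟩ := exists_conj_mem_sylow T hx (k := 1) (by rw [pow_one, pow_two, hx2])
    refine ⟨(⟨m, hm⟩ : H)⁻¹ * s * ⟨m, hm⟩, ?_, ?_⟩
    · have h1 := hn.conj_mem s hs (⟨m, hm⟩ : H)⁻¹
      rw [inv_inv] at h1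
      exact h1
    · simp only [Subgroup.coe_subtype, Subgroup.coe_mul, Subgroup.coe_inv]
      rw [← hms]; group
  exact h.comm_of_two (T.2.map _) (key a ha ha2) (key b hb hb2)

theorem Orders2P.mem_of_sq (S : Sylow 2 G) {u : G}
    (hu : u ∈ normalizer ((S : Subgroup G) : Set G)) (hu2 : u * u = 1) : u ∈ (S : Subgroup G) := by
  have h1 : IsPGroup 2 ((S : Subgroup G) ⊔ zpowers u : Subgroup G) :=
    S.2.to_sup_of_normal_left' (isPGroup_zpowers_of_pow (k := 1) (by rw [pow_one, pow_two, hu2]))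
      (zpowers_le.2 hu)
  exact (S.is_maximal' h1 le_sup_left) ▸ (le_sup_right : zpowers u ≤ (S : Subgroup G) ⊔ zpowers u)
    (mem_zpowers u)

theorem eq_one_of_two_pow_eq {a j q : ℕ} (hq : Odd q) (hq3 : 3 ≤ q) (hj : j ≠ 0)
    (he : 2 ^ a = q ^ j + 1) : j = 1 := by
  rcases Nat.even_or_odd j with ⟨i, hi⟩ | ho
  · exfalso
    have hodd : Odd (q ^ i) := hq.pow
    obtain ⟨l, hl⟩ := hodd
    have h4 : q ^ j + 1 = 4 * (l * l + l) + 2 := by rw [hi, pow_add, hl]; ring
    rw [h4] at he
    rcases a with _ | _ | a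
    · omega
    · have h9 : 3 ≤ q ^ i := hq3.trans (Nat.le_self_pow (by omega) q)
      have : 1 ≤ l := by omega
      have : 1 ≤ l * l := Nat.one_le_iff_ne_zero.2 (by positivity)
      omega
    · have : 4 ∣ 2 ^ (a + 2) := ⟨2 ^ a, by ring⟩
      omega
  · obtain ⟨i, hi⟩ := ho
    by_contra hne
    -- `(q + 1) * c = q ^ j + 1` with `c` odd
    have key : ∀ i, ∃ c, Odd c ∧ (q + 1) * c = q ^ (2 * i + 1) + 1 ∧ (0 < i → 1 < c) := by
      intro i
      induction i with
      | zero => exact ⟨1, odd_one, by simp, fun h => absurd h (lt_irrefl 0)⟩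
      | succ i ih =>
        obtain ⟨c, hc, hce, -⟩ := ih
        obtain ⟨d, hd⟩ : ∃ d, q = d + 1 := ⟨q - 1, by omega⟩
        refine ⟨q ^ (2 * i + 1) * d + c, ?_, ?_, fun _ => ?_⟩
        · refine Even.add_odd (Even.mul_left ?_ _) hc
          rw [hd, Nat.odd_add_one, Nat.not_odd_iff_even] at hq
          exact hq
        · rw [mul_add, hce, hd]; ring
        · have h1 : 1 ≤ q ^ (2 * i + 1) * d := Nat.one_le_iff_ne_zero.2
            (Nat.mul_ne_zero (pow_ne_zero _ (by omega)) (by omega))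
          have := hc.pos
          omega
    obtain ⟨c, hc, hce, hc1⟩ := key i
    rw [← hi, ← he] at hce
    obtain ⟨l, -, hl⟩ := (Nat.dvd_prime_pow Nat.prime_two).1 (Dvd.intro_left _ hce)
    rcases Nat.eq_zero_or_pos l with rfl | hl0
    · simp only [pow_zero] at hl
      have := hc1 (by omega)
      omega
    · exact Nat.not_even_iff_odd.2 hc (hl ▸ Nat.even_pow.2 ⟨even_two, hl0.ne'⟩)

section

variable (h : Orders2P G p q) (hnr : NonReal G p) (S : Sylow 2 G)

include h hnr

theorem Orders2P.isStronglyEmbedded_normalizer :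
    Cfsg.IsStronglyEmbedded (normalizer ((S : Subgroup G) : Set G)) := by
  haveI := h.simple
  haveI : Fact (Nat.Prime 2) := ⟨Nat.prime_two⟩
  refine isStronglyEmbedded_of (fun e => ?_) S (fun a ha b hb => h.comm_sylow S ha hb) h.two_dvd
    (fun t ht ht2 => h.le_normalizer_sylow hnr S
      (fun c hc => h.not_q_of_two ht2 (mem_centralizer_singleton_iff.1 hc))
      (h.le_centralizer_sylow S ht)) le_rfl
  haveI hn : (S : Subgroup G).Normal := Subgroup.normalizer_eq_top_iff.1 e
  rcases hn.eq_bot_or_eq_top with e' | e'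
  · exact S.ne_bot_of_dvd_card h.two_dvd e'
  · exact h.nonComm ⟨⟨fun a b => (h.comm_sylow S (e' ▸ mem_top a) (e' ▸ mem_top b)).eq⟩⟩

theorem Orders2P.cent_le {t : G} (ht : t ∈ (S : Subgroup G)) (ht2 : orderOf t = 2) :
    centralizer ({t} : Set G) ≤ normalizer ((S : Subgroup G) : Set G) :=
  h.le_normalizer_sylow hnr S (fun _ hc => h.not_q_of_two ht2 (mem_centralizer_singleton_iff.1 hc))
    (h.le_centralizer_sylow S ht)

omit hnr in
theorem Orders2P.card_involutions_normalizer :
    Nat.card {t : G // orderOf t = 2 ∧ t ∈ normalizer ((S : Subgroup G) : Set G)} + 1 =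
      Nat.card (S : Subgroup G) := by
  classical
  haveI := Fintype.ofFinite (S : Subgroup G)
  have e : Nat.card {t : G // orderOf t = 2 ∧ t ∈ normalizer ((S : Subgroup G) : Set G)} =
      Nat.card {s : (S : Subgroup G) // ¬ s = 1} := Nat.card_congr
    { toFun := fun t => ⟨⟨t.1, Orders2P.mem_of_sq S t.2.2 (sq_of_two t.2.1)⟩,
        fun e => ne_one_of_two t.2.1 (congrArg Subtype.val e)⟩
      invFun := fun s => ⟨s.1.1, two_of_sq (h.sq_of_mem S.2 s.1.2) (fun e => s.2 (Subtype.ext e)),
        Subgroup.le_normalizer s.1.2⟩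
      left_inv := fun _ => rfl
      right_inv := fun _ => rfl }
  rw [e, Nat.card_eq_fintype_card, Fintype.card_subtype_compl, Fintype.card_subtype_eq,
    Nat.card_eq_fintype_card]
  have : 0 < Fintype.card (S : Subgroup G) := Fintype.card_pos
  omega

/-- The normaliser of `S` has exactly `q` involutions. -/
theorem Orders2P.card_involutions_eq :
    Nat.card {t : G // orderOf t = 2 ∧ t ∈ normalizer ((S : Subgroup G) : Set G)} = q := by
  classical
  haveI : Fact p.Prime := ⟨h.prime_p⟩
  have hM := h.isStronglyEmbedded_normalizer hnr S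
  obtain ⟨i, hi, hiM⟩ := StrongEmbedding.exists_involution_notMem hM
  set D := normalizer ((S : Subgroup G) : Set G) ⊓
    (normalizer ((S : Subgroup G) : Set G)).map (MulAut.conj i).toMonoidHom with hD
  have hDodd : Odd (Nat.card D) := hM.2.2 i hiM
  have hk := (relIndex_centralizer_eq hDodd hi fun d hd => conj_mem_inter hi hd).trans
    (card_inverted hM hi hiM)
  obtain ⟨P, hP⟩ := Coprime.exists_invariant_sylow (zpowers i) D
    (zpowers_le.2 (Coprime.mem_normalizer_of_forall_conj fun d hd => conj_mem_inter hi hd))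
    (by rw [Nat.card_zpowers, hi]; exact Nat.coprime_two_left.2 hDodd)
    (Or.inl inferInstance) p
  set P' := (P : Subgroup D).map D.subtype with hP'
  have hPC : P' ≤ centralizer ({i} : Set G) := by
    intro x hx
    exact mem_centralizer_singleton_iff.2 (h.commute_of_normalises hnr (P.2.map _) hi
      (fun w hw => Coprime.mem_normalizer_conj (hP (mem_zpowers i)) hw) hx).eq
  have hp : ¬ p ∣ (centralizer ({i} : Set G)).relIndex D := by
    intro hd
    refine P.not_dvd_index ?_
    have h1 := hd.trans (Subgroup.relIndex_dvd_of_le_left (L := D) hPC)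
    rwa [hP', Subgroup.relIndex, Subgroup.subgroupOf,
      Subgroup.comap_map_eq_self_of_injective D.subtype_injective] at h1
  have hdvd : (centralizer ({i} : Set G)).relIndex D ∣ Nat.card G :=
    (Subgroup.index_dvd_card _).trans D.card_subgroup_dvd_card
  obtain ⟨j, hj⟩ := h.exists_pow_q hdvd (fun h2 => by
    have := hDodd.of_dvd_nat (h2.trans (Subgroup.index_dvd_card _))
    exact absurd this (by decide)) hp
  rw [hk] at hj
  have hS := h.card_involutions_normalizer S
  rw [hj] at hS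
  obtain ⟨a, ha⟩ := S.2.exists_card_eq
  have h4 := h.four_le S
  have hj0 : j ≠ 0 := by
    rintro rfl
    rw [pow_zero] at hS
    omega
  have hj1 := eq_one_of_two_pow_eq (a := a) (h.prime_q.odd_of_ne_two h.q_ne_two)
    (by have := h.prime_q.two_le; have := h.q_ne_two; omega) hj0 (by omega)
  rw [hj, hj1, pow_one]

/-- An element of order dividing `p` of the normaliser centralises an involution of `S`. -/
theorem Orders2P.exists_fixed_involution {y : G}
    (hy : y ∈ normalizer ((S : Subgroup G) : Set G)) (hyp : y ^ p = 1) :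
    ∃ t ∈ (S : Subgroup G), orderOf t = 2 ∧ Commute y t := by
  classical
  haveI : Fact p.Prime := ⟨h.prime_p⟩
  set X := {t : G // orderOf t = 2 ∧ t ∈ normalizer ((S : Subgroup G) : Set G)}
  haveI := Fintype.ofFinite X
  have hnd : ¬ p ∣ Fintype.card X := by
    rw [← Nat.card_eq_fintype_card, h.card_involutions_eq hnr S]
    exact fun e => h.p_ne_q ((Nat.prime_dvd_prime_iff_eq h.prime_p h.prime_q).1 e)
  let N := normalizer ((S : Subgroup G) : Set G)
  let f : N →* Equiv.Perm X :=
    { toFun := fun m =>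
        { toFun := fun t => ⟨m * t.1 * (m : G)⁻¹, by rw [Involutions.orderOf_conj_eq, t.2.1],
            N.mul_mem (N.mul_mem m.2 t.2.2) (N.inv_mem m.2)⟩
          invFun := fun t => ⟨(m : G)⁻¹ * t.1 * m, by
              simpa using (Involutions.orderOf_conj_eq (m : G)⁻¹ t.1).trans t.2.1,
            N.mul_mem (N.mul_mem (N.inv_mem m.2) t.2.2) m.2⟩
          left_inv := fun t => Subtype.ext (by simp [mul_assoc])
          right_inv := fun t => Subtype.ext (by simp [mul_assoc]) }
      map_one' := Equiv.ext fun t => Subtype.ext (by simp)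
      map_mul' := fun a b => Equiv.ext fun t => Subtype.ext (by simp [mul_assoc]) }
  have hσ : f ⟨y, hy⟩ ^ p ^ 1 = 1 := by
    rw [← map_pow, show (⟨y, hy⟩ : N) ^ p ^ 1 = 1 from Subtype.ext (by simpa using hyp), map_one]
  obtain ⟨t, ht⟩ := Equiv.Perm.exists_fixed_point_of_prime hnd hσ
  have ht' : y * t.1 * y⁻¹ = t.1 := congrArg Subtype.val ht
  exact ⟨t.1, Orders2P.mem_of_sq S t.2.2 (sq_of_two t.2.1), t.2.1, mul_inv_eq_iff_eq_mul.1 ht'⟩

/-- The normaliser controls the fusion of its `p`-elements. -/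
theorem Orders2P.mem_of_conj {y g : G} (hy : y ∈ normalizer ((S : Subgroup G) : Set G))
    (hyp : y ^ p = 1) (hy1 : y ≠ 1) (hg : g * y * g⁻¹ ∈ normalizer ((S : Subgroup G) : Set G)) :
    g ∈ normalizer ((S : Subgroup G) : Set G) := by
  have hM := h.isStronglyEmbedded_normalizer hnr S
  obtain ⟨t, htS, ht, hct⟩ := h.exists_fixed_involution hnr S hy hyp
  set y' := g * y * g⁻¹ with hy'
  have hy'p : y' ^ p = 1 := by rw [hy', conj_pow, hyp]; group
  have hy'1 : y' ≠ 1 := by rwa [hy', Ne, conj_eq_one_iff]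
  obtain ⟨t', ht'S, ht', hct'⟩ := h.exists_fixed_involution hnr S hg hy'p
  have hct2 : Commute (g * t * g⁻¹) y' := by
    have h1 := (hct.map (MulAut.conj g).toMonoidHom).symm
    simp only [MulEquiv.coe_toMonoidHom, MulAut.conj_apply] at h1
    exact h1
  have hc := h.commute_involutions hnr (H := centralizer ({y'} : Set G))
    (fun x hx => h.not_q_of_p (h.orderOf_p hy'p hy'1) (mem_centralizer_singleton_iff.1 hx))
    (mem_centralizer_singleton_iff.2 hct2.eq) (mem_centralizer_singleton_iff.2 hct'.eq.symm)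
    (sq_of_two (by rw [Involutions.orderOf_conj_eq, ht])) (sq_of_two ht')
  have hmem := h.cent_le hnr S ht'S ht' (mem_centralizer_singleton_iff.2 hc.eq)
  have := Involutions.se_mem_of_conj_mem hM (g := g⁻¹) (Subgroup.le_normalizer htS) ht (by
    simpa using hmem)
  simpa using (normalizer ((S : Subgroup G) : Set G)).inv_mem this

theorem Orders2P.mem_of_commute {y g : G} (hy : y ∈ normalizer ((S : Subgroup G) : Set G))
    (hyp : y ^ p = 1) (hy1 : y ≠ 1) (hg : Commute g y) :
    g ∈ normalizer ((S : Subgroup G) : Set G) :=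
  h.mem_of_conj hnr S hy hyp hy1 (by rw [hg.eq, mul_inv_cancel_right]; exact hy)

/-- Some element of order `p` centralises `S`. -/
theorem Orders2P.exists_central_p :
    ∃ y : G, orderOf y = p ∧ ∀ s ∈ (S : Subgroup G), Commute y s := by
  classical
  by_contra! hW
  haveI : Fact p.Prime := ⟨h.prime_p⟩
  haveI : Fact q.Prime := ⟨h.prime_q⟩
  haveI : Fact (Nat.Prime 2) := ⟨Nat.prime_two⟩
  haveI := h.simple
  set M := normalizer ((S : Subgroup G) : Set G) with hMdef
  have hM := h.isStronglyEmbedded_normalizer hnr S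
  have hSM : (S : Subgroup G) ≤ M := Subgroup.le_normalizer
  haveI : ((S : Subgroup G).subgroupOf M).Normal := Subgroup.normal_subgroupOf_of_le_normalizer le_rfl
  set N₀ := (S : Subgroup G).subgroupOf M with hN₀
  -- an involution of `S`
  obtain ⟨t, htS, ht⟩ := Involutions.exists_involution_of_even_card (S : Subgroup G)
    (even_iff_two_dvd.2 (S.dvd_card_of_dvd_card h.two_dvd))
  set C := centralizer ({t} : Set G) with hC
  have hCM : C ≤ M := h.cent_le hnr S htS ht
  have hidx : C.relIndex M = q :=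
    (relIndex_centralizer_involution hM (hSM htS) ht).trans (h.card_involutions_eq hnr S)
  have hcardM : Nat.card M = q * Nat.card C := by
    rw [← hidx, ← (C.subgroupOf M).card_mul_index,
      Nat.card_congr (Subgroup.subgroupOfEquivOfLe hCM).toEquiv, mul_comm]
    rfl
  have hSC : (S : Subgroup G) ≤ C := h.le_centralizer_sylow S htS
  obtain ⟨b, hb⟩ : ∃ b, (S : Subgroup G).relIndex C = p ^ b := by
    refine ⟨_, Nat.eq_prime_pow_of_unique_prime_dvd Subgroup.index_ne_zero_of_finite
      fun {d} hd hdd => ?_⟩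
    rcases h.primes (H := C) (fun c hc => h.not_q_of_two ht (mem_centralizer_singleton_iff.1 hc)) d hd
      (hdd.trans (Subgroup.index_dvd_card _)) with rfl | rfl
    · exact absurd hdd ((S.subtype hSC).not_dvd_index)
    · rfl
  set X := M ⧸ N₀
  have hcardX : Nat.card X = q * p ^ b := by
    have h1 := Subgroup.card_eq_card_quotient_mul_card_subgroup N₀
    rw [hcardM, ← ((S : Subgroup G).subgroupOf C).card_mul_index,
      Nat.card_congr (Subgroup.subgroupOfEquivOfLe hSC).toEquiv,
      Nat.card_congr (Subgroup.subgroupOfEquivOfLe hSM).toEquiv,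
      show ((S : Subgroup G).subgroupOf C).index = p ^ b from hb] at h1
    refine Nat.eq_of_mul_eq_mul_right (Nat.card_pos (α := (S : Subgroup G))) ?_
    rw [← h1]; ring
  have hb0 : b ≠ 0 := by
    intro e
    obtain ⟨y, hy, hyt⟩ := h.exists_p_commute ht
    have hSeq : C ≤ (S : Subgroup G) := Subgroup.relIndex_eq_one.1 (by rw [hb, e, pow_zero])
    have := h.sq_of_mem S.2 (hSeq (mem_centralizer_singleton_iff.2 hyt.eq))
    rw [← pow_two, ← orderOf_dvd_iff_pow_eq_one, hy] at this
    exact h.p_ne_two ((Nat.prime_dvd_prime_iff_eq h.prime_p Nat.prime_two).1 this)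
  haveI : Group.IsSolvable X := EPPO21.isSolvable_of_le_two (by
    rw [hcardX, Nat.primeFactors_mul h.prime_q.ne_zero (pow_ne_zero _ h.prime_p.ne_zero),
      h.prime_q.primeFactors, Nat.primeFactors_prime_pow hb0 h.prime_p]
    exact (Finset.card_union_le _ _).trans (by simp))
  haveI : Nontrivial X := by
    rw [← Finite.one_lt_card_iff_nontrivial, hcardX]
    have := Nat.pow_pos (n := b) h.prime_p.pos
    have := h.prime_q.two_le
    nlinarith
  obtain ⟨r, hr, hrd, hrne⟩ := Fitting.exists_pCore_ne_bot (G := X)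
  haveI : (Cfsg.pCore r X).Normal := Cfsg.pCore_normal r _
  rw [hcardX] at hrd
  have hrpq : r = q ∨ r = p := by
    rcases hr.dvd_mul.1 hrd with e | e
    · exact Or.inl ((Nat.prime_dvd_prime_iff_eq hr h.prime_q).1 e)
    · exact Or.inr ((Nat.prime_dvd_prime_iff_eq hr h.prime_p).1 (hr.dvd_of_dvd_pow e))
  rcases hrpq with hrq | hrp
  swap
  · -- a normal `p`-subgroup would centralise `S`
    subst r
    set K := (Cfsg.pCore p X).comap (QuotientGroup.mk' N₀) with hK
    haveI : K.Normal := Subgroup.Normal.comap inferInstance _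
    obtain ⟨i, hi⟩ := (PCore.pCore_isPGroup (p := p) (G := X)).exists_card_eq
    have hne : Nat.card (Cfsg.pCore p X) ≠ 1 := fun e => hrne (Subgroup.card_eq_one.1 e)
    have hNK : N₀.relIndex K = p ^ i := by
      have h1 : N₀ = (⊥ : Subgroup X).comap (QuotientGroup.mk' N₀) := by
        rw [MonoidHom.comap_bot, QuotientGroup.ker_mk']
      rw [h1, Subgroup.relIndex_comap, hK,
        Subgroup.map_comap_eq_self_of_surjective (QuotientGroup.mk'_surjective N₀),
        Subgroup.relIndex_bot_left, hi]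
    obtain ⟨y, hy⟩ := exists_prime_orderOf_dvd_card' (G := K) p (by
      refine dvd_trans ?_ (hNK ▸ Subgroup.index_dvd_card _ : p ^ i ∣ Nat.card K)
      exact dvd_pow_self p fun e => hne (by rw [hi, e, pow_zero]))
    have hyo : orderOf ((y : M) : G) = p := by rw [Subgroup.orderOf_coe, Subgroup.orderOf_coe, hy]
    obtain ⟨s, hs, hcomm⟩ := hW _ hyo
    refine hcomm ?_
    by_cases hs1 : s = 1
    · rw [hs1]; exact Commute.one_right _
    have hs2 : orderOf s = 2 := two_of_sq (h.sq_of_mem S.2 hs) hs1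
    set Cs := (centralizer ({s} : Set G)).subgroupOf M with hCs
    have hq' : Cs.index = q :=
      (relIndex_centralizer_involution hM (hSM hs) hs2).trans (h.card_involutions_eq hnr S)
    have hle : N₀ ≤ Cs := fun a ha => h.le_centralizer_sylow S hs ha
    have hKi : Cs.relIndex K = 1 := by
      refine Nat.eq_one_of_dvd_coprimes
        (((Nat.coprime_primes h.prime_p h.prime_q).2 h.p_ne_q).pow_left i)
        (hNK ▸ Subgroup.relIndex_dvd_of_le_left K hle) ?_
      rw [← hq']
      have h1 : (Cs ⊓ K).relIndex Cs * Cs.relIndex (Cs ⊔ K) =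
          (Cs ⊓ K).relIndex K * K.relIndex (Cs ⊔ K) := by
        rw [Subgroup.relIndex_mul_relIndex _ _ _ inf_le_left le_sup_left,
          Subgroup.relIndex_mul_relIndex _ _ _ inf_le_right le_sup_right]
      rw [Subgroup.inf_relIndex_left, Subgroup.inf_relIndex_right, Subgroup.relIndex_sup_right,
        mul_comm (Cs.relIndex K)] at h1
      rw [← Nat.eq_of_mul_eq_mul_left (Nat.pos_of_ne_zero Subgroup.index_ne_zero_of_finite) h1]
      exact Dvd.intro _ (Subgroup.relIndex_mul_index (le_sup_left : Cs ≤ Cs ⊔ K))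
    exact mem_centralizer_singleton_iff.1 (Subgroup.relIndex_eq_one.1 hKi y.2)
  · -- a nontrivial `p`-quotient of `M`
    subst r
    haveI : Fact p.Prime := ⟨h.prime_p⟩
    set O := Cfsg.pCore q X with hO
    obtain ⟨i, hi⟩ := (PCore.pCore_isPGroup (p := q) (G := X)).exists_card_eq
    have hi0 : i ≠ 0 := fun e => hrne (Subgroup.card_eq_one.1 (by rw [hi, e, pow_zero]))
    have hdv : q ^ i ∣ q * p ^ b := hi ▸ hcardX ▸ Subgroup.card_subgroup_dvd_card O
    have hi1 : i = 1 := by
      by_contra hne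
      have h2 : q * q ∣ q * p ^ b := by
        rw [← pow_two]; exact (pow_dvd_pow q (by omega)).trans hdv
      exact h.p_ne_q ((Nat.prime_dvd_prime_iff_eq h.prime_q h.prime_p).1
        (h.prime_q.dvd_of_dvd_pow ((Nat.mul_dvd_mul_iff_left h.prime_q.pos).1 h2))).symm
    have hcardY : Nat.card (X ⧸ O) = p ^ b := by
      have := Subgroup.card_eq_card_quotient_mul_card_subgroup O
      rw [hcardX, hi, hi1, pow_one, mul_comm q] at this
      exact (Nat.eq_of_mul_eq_mul_right h.prime_q.pos this).symm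
    haveI : Nontrivial (X ⧸ O) := by
      rw [← Finite.one_lt_card_iff_nontrivial, hcardY]
      exact Nat.one_lt_pow hb0 h.prime_p.one_lt
    haveI : Group.IsNilpotent (X ⧸ O) := (IsPGroup.of_card hcardY).isNilpotent
    let f : M →* X ⧸ O := (QuotientGroup.mk' O).comp (QuotientGroup.mk' N₀)
    have hf : Function.Surjective f :=
      (QuotientGroup.mk'_surjective O).comp (QuotientGroup.mk'_surjective N₀)
    -- a Sylow `p`-subgroup of `M` is one of `G`
    obtain ⟨T⟩ := (inferInstance : Nonempty (Sylow p M))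
    set P₀ := (T : Subgroup M).map M.subtype with hP₀
    have hP₀p : IsPGroup p P₀ := T.2.map _
    have hTne : (T : Subgroup M) ≠ ⊥ := T.ne_bot_of_dvd_card (by
      rw [hcardM]
      refine dvd_mul_of_dvd_right (dvd_trans ?_ (Subgroup.index_dvd_card ((S : Subgroup G).subgroupOf C))) _
      show p ∣ (S : Subgroup G).relIndex C
      rw [hb]; exact dvd_pow_self p hb0)
    obtain ⟨y, hy, hy1⟩ := P₀.bot_or_exists_ne_one.resolve_left
      fun e => hTne ((map_eq_bot_iff_of_injective _ M.subtype_injective).1 e)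
    have hP₀M : P₀ ≤ M := map_subtype_le _
    obtain ⟨P, hP⟩ := hP₀p.exists_le_sylow
    have hPP : (P : Subgroup G) = P₀ := by
      refine le_antisymm ?_ hP
      by_contra hnot
      obtain ⟨z, hzP, hzn, hzN⟩ := Involutions.exists_mem_normalizer_notMem P.2
        (lt_of_le_of_ne hP fun e => hnot e.ge)
      have hzM : z ∈ M := h.mem_of_conj hnr S (hP₀M hy) (h.pow_p_of_mem hP₀p hy) hy1
        (hP₀M (Coprime.mem_normalizer_conj hzN hy))
      have h1 : IsPGroup p ((T : Subgroup M) ⊔ zpowers (⟨z, hzM⟩ : M) : Subgroup M) := by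
        refine (P.2.comap_subtype (K := M)).to_le (sup_le ?_ (zpowers_le.2 hzP))
        exact fun a ha => hP ⟨a, ha, rfl⟩
      exact hzn ⟨⟨z, hzM⟩, (T.is_maximal' h1 le_sup_left) ▸
        (le_sup_right : zpowers (⟨z, hzM⟩ : M) ≤ _) (mem_zpowers _), rfl⟩
    have hcomm : commutator G = ⊤ := by
      rcases (inferInstance : (commutator G).Normal).eq_bot_or_eq_top with e | e
      · refine absurd ⟨⟨fun a b => ?_⟩⟩ h.nonComm
        rw [_root_.commutator_def, commutator_eq_bot_iff_le_centralizer] at e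
        exact (mem_centralizer_iff.1 (e (mem_top a)) b (mem_top b)).symm
      · exact e
    have hfus := Transfer.commutator_inf_eq_of_controls P (K := M) (hPP ▸ hP₀M) fun x hx g hg => by
      by_cases hx1 : x = 1
      · exact ⟨1, M.one_mem, by rw [hx1]; simp⟩
      · rw [hPP] at hx hg
        exact ⟨g, h.mem_of_conj hnr S (hP₀M hx) (h.pow_p_of_mem hP₀p hx) hx1 (hP₀M hg), rfl⟩
    rw [hcomm, top_inf_eq, hPP] at hfus
    have hTc : (T : Subgroup M) ≤ commutator M := by
      intro a ha
      have h1 : (a : G) ∈ ⁅M, M⁆ := (hfus.le ⟨a, ha, rfl⟩).1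
      rw [← M.map_subtype_commutator] at h1
      obtain ⟨a', ha', e⟩ := h1
      rwa [M.subtype_injective e] at ha'
    have hmap : ((T : Subgroup M).map f) = ⊤ := by
      rw [← Sylow.coe_mapSurjective hf]
      exact (IsPGroup.of_card hcardY).to_subgroup ⊤ |> fun ht => le_antisymm le_top
        ((T.mapSurjective hf).is_maximal' ht le_top).le
    have hlt := Group.IsSolvable.commutator_lt_top_of_nontrivial (X ⧸ O)
    refine hlt.ne (top_le_iff.1 ?_)
    rw [← hmap]
    refine (Subgroup.map_mono hTc).trans ?_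
    rw [_root_.commutator_def, Subgroup.map_commutator]
    exact Subgroup.commutator_mono le_top le_top

/-- Every element of the normaliser of order dividing `p` centralises `S`. -/
theorem Orders2P.commute_sylow_of_mem {y : G} (hy : y ∈ normalizer ((S : Subgroup G) : Set G))
    (hyp : y ^ p = 1) {s : G} (hs : s ∈ (S : Subgroup G)) : Commute y s := by
  by_cases hy1 : y = 1
  · rw [hy1]; exact Commute.one_left s
  haveI : Fact (Nat.Prime 2) := ⟨Nat.prime_two⟩
  obtain ⟨w, hw, hwS⟩ := h.exists_central_p hnr S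
  have hyo := h.orderOf_p hyp hy1
  obtain ⟨φ, hφ⟩ := h.trans w y (hw.trans hyo.symm)
  set S' := (S : Subgroup G).map φ.toMonoidHom with hS'
  have hS'c : ∀ a ∈ S', Commute y a := by
    rintro _ ⟨a, ha, rfl⟩
    exact hφ ▸ (hwS a ha).map φ.toMonoidHom
  obtain ⟨t, htS, ht, hyt⟩ := h.exists_fixed_involution hnr S hy hyp
  have hle : S' ≤ (S : Subgroup G) := by
    intro a ha
    have haS : a * a = 1 := h.sq_of_mem (S.2.map φ.toMonoidHom) ha
    refine Orders2P.mem_of_sq S (h.cent_le hnr S htS ht (mem_centralizer_singleton_iff.2 ?_)) haS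
    exact (h.commute_involutions hnr (H := centralizer ({y} : Set G))
      (fun x hx => h.not_q_of_p hyo (mem_centralizer_singleton_iff.1 hx))
      (mem_centralizer_singleton_iff.2 (hS'c a ha).eq.symm)
      (mem_centralizer_singleton_iff.2 hyt.eq.symm) haS (sq_of_two ht)).eq
  have heq : S' = (S : Subgroup G) := Subgroup.eq_of_le_of_card_ge hle (by
    rw [hS', Subgroup.card_map_of_injective (φ : G ≃* G).injective])
  exact hS'c s (heq.symm ▸ hs)

/-- The centraliser of an involution of `S` is that of `S`. -/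
theorem Orders2P.commute_sylow_of_commute {t : G} (ht : t ∈ (S : Subgroup G)) (ht2 : orderOf t = 2)
    {c : G} (hc : Commute c t) {s : G} (hs : s ∈ (S : Subgroup G)) : Commute c s := by
  have hcM := h.cent_le hnr S ht ht2 (mem_centralizer_singleton_iff.2 hc.eq)
  have hd : c ^ (2 * p) = 1 :=
    orderOf_dvd_iff_pow_eq_one.1 (h.dvd_two_p (h.not_q_of_two ht2 hc))
  obtain ⟨l, hl⟩ := h.prime_p.odd_of_ne_two h.p_ne_two
  have h1 : c ^ p ∈ (S : Subgroup G) := Orders2P.mem_of_sq S (pow_mem hcM p)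
    (by rw [← pow_add, show p + p = 2 * p by ring, hd])
  have h2 : Commute (c ^ 2) s :=
    h.commute_sylow_of_mem hnr S (pow_mem hcM 2) (by rw [← pow_mul, hd]) hs
  have hc' : c = c ^ p * ((c ^ 2) ^ l)⁻¹ := by
    rw [eq_mul_inv_iff_mul_eq, ← pow_mul, ← pow_succ', hl]
  rw [hc']
  exact (h.comm_sylow S h1 hs).mul_left ((h2.pow_left l).inv_left)

omit h hnr in
theorem coset_eq_base {M : Subgroup G} {g : G} :
    ((g : G) : G ⧸ M) = ((1 : G) : G ⧸ M) ↔ g ∈ M := by
  rw [QuotientGroup.eq]; simp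

/-- The non-real case is impossible. -/
theorem Orders2P.false_of_nonReal : False := by
  classical
  haveI := h.simple
  haveI : Fact q.Prime := ⟨h.prime_q⟩
  haveI : Fact (Nat.Prime 2) := ⟨Nat.prime_two⟩
  obtain ⟨S⟩ := (inferInstance : Nonempty (Sylow 2 G))
  set M := normalizer ((S : Subgroup G) : Set G) with hMdef
  have hM := h.isStronglyEmbedded_normalizer hnr S
  have hSM : (S : Subgroup G) ≤ M := Subgroup.le_normalizer
  set o : G ⧸ M := ((1 : G) : G ⧸ M) with ho
  have hstab : ∀ g : G, g • o = o ↔ g ∈ M := fun g => StrongEmbedding.mem_iff_smul_base.symm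
  obtain ⟨i, hi, hiM⟩ := StrongEmbedding.exists_involution_notMem hM
  have hii := sq_of_two hi
  obtain ⟨t, htS, ht⟩ := Involutions.exists_involution_of_even_card (S : Subgroup G)
    (even_iff_two_dvd.2 (S.dvd_card_of_dvd_card h.two_dvd))
  set F := centralizer ((S : Subgroup G) : Set G) with hF
  have hFM : F ≤ M := fun c hc => h.cent_le hnr S htS ht
    (mem_centralizer_singleton_iff.2 (mem_centralizer_iff.1 hc t htS).symm)
  have hFt : centralizer ({t} : Set G) = F := by
    refine le_antisymm (fun c hc => mem_centralizer_iff.2 fun s hs => ?_) fun c hc =>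
      mem_centralizer_singleton_iff.2 (mem_centralizer_iff.1 hc t htS).symm
    exact (h.commute_sylow_of_commute hnr S htS ht (mem_centralizer_singleton_iff.1 hc) hs).eq.symm
  have hcardM : Nat.card M = q * Nat.card F := by
    have h1 : F.relIndex M = q := hFt ▸
      (relIndex_centralizer_involution hM (hSM htS) ht).trans (h.card_involutions_eq hnr S)
    rw [← h1, ← (F.subgroupOf M).card_mul_index,
      Nat.card_congr (Subgroup.subgroupOfEquivOfLe hFM).toEquiv, mul_comm]
    rfl
  have hFq : ¬ q ∣ Nat.card F := by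
    intro hd
    obtain ⟨c, hc⟩ := exists_prime_orderOf_dvd_card' (G := F) q hd
    refine h.not_q_of_two ht (c := (c : G)) ?_ (by rw [Subgroup.orderOf_coe, hc])
    exact (mem_centralizer_iff.1 c.2 t htS).symm
  -- the stabilisers of two cosets
  have hfix : ∀ {r g : G}, (g • o = o ∧ g • ((r : G) : G ⧸ M) = ((r : G) : G ⧸ M)) ↔
      g ∈ M ⊓ M.map (MulAut.conj r).toMonoidHom := fun {r g} =>
    StrongEmbedding.mem_inf_map_conj_iff.symm
  have hDstep : ∀ {r : G}, orderOf r = 2 → r ∉ M →
      Nat.card (M ⊓ M.map (MulAut.conj r).toMonoidHom : Subgroup G) = q ∧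
        ∀ d ∈ M ⊓ M.map (MulAut.conj r).toMonoidHom, r * d * r⁻¹ = d⁻¹ := by
    intro r hr hrM
    set D := M ⊓ M.map (MulAut.conj r).toMonoidHom with hD
    have hodd : Odd (Nat.card D) := hM.2.2 r hrM
    have hnop : ∀ d ∈ D, d ^ p = 1 → d = 1 := by
      intro d hd hdp
      by_contra hd1
      have hd' : r⁻¹ * d * r ∈ M := Involutions.mem_map_conj_iff.1 hd.2
      have hc : Commute (r⁻¹ * d * r) t := h.commute_sylow_of_mem hnr S hd' (by
        rw [show r⁻¹ * d * r = r⁻¹ * d * r⁻¹⁻¹ by group, conj_pow, hdp]; group) htS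
      have hct : Commute d (r * t * r⁻¹) := by
        have := hc.map (MulAut.conj r).toMonoidHom
        simpa [mul_assoc] using this
      have hmem : r * t * r⁻¹ ∈ M := h.mem_of_commute hnr S hd.1 hdp hd1 hct.symm
      have := Involutions.se_mem_of_conj_mem hM (g := r⁻¹) (hSM htS) ht (by rw [inv_inv]; exact hmem)
      exact hrM (by simpa using M.inv_mem this)
    have hpnd : ¬ p ∣ Nat.card D := by
      intro hd
      haveI : Fact p.Prime := ⟨h.prime_p⟩
      obtain ⟨d, hd'⟩ := exists_prime_orderOf_dvd_card' (G := D) p hd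
      have h1 := hnop d d.2 (by
        rw [← hd', ← Subgroup.orderOf_coe d]; exact pow_orderOf_eq_one _)
      rw [← Subgroup.orderOf_coe, h1, orderOf_one] at hd'
      exact h.prime_p.ne_one hd'.symm
    obtain ⟨j, hj⟩ := h.exists_pow_q D.card_subgroup_dvd_card
      (fun h2 => Nat.not_even_iff_odd.2 hodd (even_iff_two_dvd.2 h2)) hpnd
    have hle : Nat.card D ∣ q := by
      have h1 : Nat.card D ∣ q * Nat.card F := hcardM ▸ Subgroup.card_dvd_of_le inf_le_left
      exact ((hj ▸ (h.prime_q.coprime_iff_not_dvd.2 hFq).pow_left j :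
        (Nat.card D).Coprime (Nat.card F))).dvd_of_dvd_mul_right h1
    have hJ := (card_inverted hM hr hrM).trans (h.card_involutions_eq hnr S)
    have hge : q ≤ Nat.card D := hJ ▸ Nat.card_le_card_of_injective
      (fun d => (⟨d.1, d.2.1⟩ : D)) (fun a b e => Subtype.ext (congrArg (fun x : D => (x : G)) e))
    have hcard : Nat.card D = q := le_antisymm (Nat.le_of_dvd h.prime_q.pos hle) hge
    refine ⟨hcard, fun d hd => ?_⟩
    have hbij : Function.Bijective (fun d : {d : G // d ∈ D ∧ r * d * r⁻¹ = d⁻¹} => (⟨d.1, d.2.1⟩ : D)) :=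
      Function.Injective.bijective_of_nat_card_le
        (fun a b e => Subtype.ext (congrArg (fun x : D => (x : G)) e)) (by rw [hcard, hJ])
    obtain ⟨⟨d', hd', hinv⟩, e⟩ := hbij.2 ⟨d, hd⟩
    obtain rfl : d' = d := congrArg (fun x : D => (x : G)) e
    exact hinv
  obtain ⟨hDcard, hDinv⟩ := hDstep hi hiM
  set D := M ⊓ M.map (MulAut.conj i).toMonoidHom with hD
  obtain ⟨d₀, hd₀D, hd₀1⟩ := D.bot_or_exists_ne_one.resolve_left fun e => by
    rw [e, Subgroup.card_bot] at hDcard; exact h.prime_q.ne_one hDcard.symm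
  have hgen : ∀ d ∈ D, d ≠ 1 → zpowers d = D ∧ orderOf d = q := by
    intro d hd hd1
    have hdq : orderOf d = q := by
      refine ((Nat.dvd_prime h.prime_q).1 ?_).resolve_left fun e => hd1 (orderOf_eq_one_iff.1 e)
      rw [← hDcard, ← Subgroup.orderOf_mk d hd]; exact orderOf_dvd_natCard _
    exact ⟨Subgroup.eq_of_le_of_card_ge (zpowers_le.2 hd) (by rw [hDcard, Nat.card_zpowers, hdq]), hdq⟩
  obtain ⟨hd₀z, hd₀q⟩ := hgen d₀ hd₀D hd₀1
  have hid₀ : i * d₀ * i⁻¹ = d₀⁻¹ := hDinv d₀ hd₀D
  set io : G ⧸ M := ((i : G) : G ⧸ M) with hio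
  have hio' : i • o = io := by rw [ho, hio, MulAction.Quotient.smul_coe, smul_eq_mul, mul_one]
  have hoi : i • io = o := by rw [ho, hio, MulAction.Quotient.smul_coe, smul_eq_mul, hii]
  have hione : io ≠ o := fun e => hiM (coset_eq_base.1 e)
  have hdo : d₀ • o = o ∧ d₀ • io = io := hfix.2 hd₀D
  have hne2 : d₀ * d₀ ≠ 1 := fun e => by
    rw [← pow_two, ← orderOf_dvd_iff_pow_eq_one, hd₀q] at e
    exact h.q_ne_two ((Nat.prime_dvd_prime_iff_eq h.prime_q Nat.prime_two).1 e)
  -- the centraliser of `d₀` is inverted by `i`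
  set Z := centralizer ({d₀} : Set G) with hZdef
  have hiZ : ∀ z ∈ Z, i * z * i⁻¹ = z⁻¹ :=
    InvChar.InvolutionCores.inverts hii Z
      (fun z hz => mem_centralizer_singleton_iff.2 (conj_commute_of_inverts hid₀
        (mem_centralizer_singleton_iff.1 hz)).eq)
      fun z hz hzi => by
        have hzq := h.pow_q_of_commute hd₀q (mem_centralizer_singleton_iff.1 hz)
        by_contra hz1
        exact h.not_q_of_two hi hzi (orderOf_eq_prime hzq hz1)
  have hA : ∀ z ∈ Z, z • o ≠ io := by
    intro z hz e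
    have hzM : i * z ∈ M := (hstab _).1 (by rw [mul_smul, e, hoi])
    have hsq : i * z * (i * z) = 1 := by
      have h1 := hiZ z hz
      rw [inv_of_two hi] at h1
      rw [show i * z * (i * z) = i * z * i * z by group, h1, inv_mul_cancel]
    have hmem := Orders2P.mem_of_sq S hzM hsq
    have hs : i * z * d₀ * (i * z)⁻¹ = d₀⁻¹ := by
      have h1 : z * d₀ * z⁻¹ = d₀ :=
        mul_inv_eq_iff_eq_mul.2 (mem_centralizer_singleton_iff.1 hz)
      rw [show i * z * d₀ * (i * z)⁻¹ = i * (z * d₀ * z⁻¹) * i⁻¹ by group, h1, hid₀]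
    have h2 : i * z * d₀ * (i * z)⁻¹ * d₀⁻¹ ∈ (S : Subgroup G) := by
      rw [show i * z * d₀ * (i * z)⁻¹ * d₀⁻¹ = i * z * (d₀ * (i * z)⁻¹ * d₀⁻¹) by group]
      exact (S : Subgroup G).mul_mem hmem
        (Coprime.mem_normalizer_conj hd₀D.1 ((S : Subgroup G).inv_mem hmem))
    have h3 := h.sq_of_mem S.2 h2
    rw [hs] at h3
    have h4 : d₀ ^ 4 = 1 := inv_eq_one.1 (by rw [← h3]; group)
    have h5 : orderOf d₀ ∣ 4 := orderOf_dvd_of_pow_eq_one h4
    rw [hd₀q, show (4 : ℕ) = 2 * 2 by norm_num] at h5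
    rcases h.prime_q.dvd_mul.1 h5 with e2 | e2 <;>
      exact h.q_ne_two ((Nat.prime_dvd_prime_iff_eq h.prime_q Nat.prime_two).1 e2)
  have hB : ∀ z ∈ Z, d₀ • (z • o) = z • o := fun z hz => by
    rw [smul_smul, ← mem_centralizer_singleton_iff.1 hz, mul_smul, hdo.1]
  have hC : ∀ x : G ⧸ M, d₀ • x = x → x ≠ io → ∃ z ∈ Z, z • o = x := by
    intro x hx hxne
    set x' := i • x with hx'
    have hx'fix : d₀ • x' = x' := by
      have h1 : d₀ * i = i * d₀⁻¹ := by
        rw [← hid₀, show i * (i * d₀ * i⁻¹) = (i * i) * d₀ * i⁻¹ by group, hii, one_mul, inv_of_two hi]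
      rw [hx', smul_smul, h1, mul_smul]
      congr 1
      rw [inv_smul_eq_iff, hx]
    have hx'o : x' ≠ o := fun e => hxne (by rw [← hio', ← e, hx', smul_smul, hii, one_smul])
    have hk : 0 < Nat.card {r : G // orderOf r = 2 ∧ r • o = x'} := by
      rw [StrongEmbedding.card_swapping hM (Ne.symm hx'o), h.card_involutions_eq hnr S]
      exact h.prime_q.pos
    obtain ⟨⟨⟨r, hr, hrx⟩⟩, -⟩ := Nat.card_pos_iff.1 hk
    have hrM : r ∉ M := fun e => hx'o (by rw [← hrx, (hstab r).2 e])
    have hrc : ((r : G) : G ⧸ M) = x' := by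
      rw [← hrx, ho, MulAction.Quotient.smul_coe, smul_eq_mul, mul_one]
    have hrd : r * d₀ * r⁻¹ = d₀⁻¹ := (hDstep hr hrM).2 d₀ (hfix.1 ⟨hdo.1, hrc.symm ▸ hx'fix⟩)
    refine ⟨i * r, mem_centralizer_singleton_iff.2 (mul_inv_eq_iff_eq_mul.1 ?_), ?_⟩
    · rw [show i * r * d₀ * (i * r)⁻¹ = i * (r * d₀ * r⁻¹) * i⁻¹ by group, hrd,
        show i * d₀⁻¹ * i⁻¹ = (i * d₀ * i⁻¹)⁻¹ by group, hid₀, inv_inv]
    · rw [mul_smul, hrx, hx', smul_smul, hii, one_smul]
  have hZio : ∀ z ∈ Z, z • io = io := by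
    intro z hz
    by_contra hne
    obtain ⟨z', hz', e⟩ := hC (z • io) (by
      rw [smul_smul, ← mem_centralizer_singleton_iff.1 hz, mul_smul, hdo.2]) hne
    exact hA (z⁻¹ * z') (Z.mul_mem (Z.inv_mem hz) hz') (by rw [mul_smul, e, inv_smul_smul])
  have hFix : ∀ x : G ⧸ M, d₀ • x = x → x = o ∨ x = io := by
    intro x hx
    by_cases hxi : x = io
    · exact Or.inr hxi
    obtain ⟨z, hz, rfl⟩ := hC x hx hxi
    refine Or.inl ?_
    have h1 := hiZ z⁻¹ (Z.inv_mem hz)
    rw [inv_inv, inv_of_two hi] at h1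
    rw [← h1, mul_smul, mul_smul, hio']
    rw [hZio _ (Z.inv_mem hz), hoi]
  -- the Sylow `q`-subgroups of `M` have order `q`
  obtain ⟨T, hT⟩ := ((IsPGroup.of_card (p := q) (n := 1)
    (by rw [hDcard, pow_one])).comap_subtype (K := M) :
      IsPGroup q (D.subgroupOf M)).exists_le_sylow
  have hTD : (T : Subgroup M) = D.subgroupOf M := by
    refine (Subgroup.eq_of_le_of_card_ge hT ?_).symm
    show Nat.card (T : Subgroup M) ≤ Nat.card (D.subgroupOf M)
    rw [Nat.card_congr (Subgroup.subgroupOfEquivOfLe (inf_le_left : D ≤ M)).toEquiv, hDcard]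
    obtain ⟨j, hj⟩ := T.2.exists_card_eq
    have h1 : q ^ j ∣ q * Nat.card F := hcardM ▸ hj ▸ Subgroup.card_subgroup_dvd_card _
    rw [hj]
    exact Nat.le_of_dvd h.prime_q.pos
      ((h.prime_q.coprime_iff_not_dvd.2 hFq).pow_left j |>.dvd_of_dvd_mul_right h1)
  have horb : ∀ x : G ⧸ M, x ≠ o → ∃ m ∈ M, m • io = x := by
    intro x hx
    induction x using QuotientGroup.induction_on with
    | H σ =>
      have hk : 0 < Nat.card {r : G // orderOf r = 2 ∧ r • o = ((σ : G) : G ⧸ M)} := by
        rw [StrongEmbedding.card_swapping hM (Ne.symm hx), h.card_involutions_eq hnr S]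
        exact h.prime_q.pos
      obtain ⟨⟨⟨r, hr, hrx⟩⟩, -⟩ := Nat.card_pos_iff.1 hk
      have hrM : r ∉ M := fun e => hx (by rw [← hrx, (hstab r).2 e])
      have hrc : ((r : G) : G ⧸ M) = ((σ : G) : G ⧸ M) := by
        rw [← hrx, ho, MulAction.Quotient.smul_coe, smul_eq_mul, mul_one]
      obtain ⟨d, hd, hd1⟩ := (M ⊓ M.map (MulAut.conj r).toMonoidHom).bot_or_exists_ne_one.resolve_left
        fun e => by
          have h1 := (hDstep hr hrM).1
          rw [e, Subgroup.card_bot] at h1; exact h.prime_q.ne_one h1.symm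
      have hdq : d ^ q ^ 1 = 1 := by
        rw [pow_one, ← orderOf_dvd_iff_pow_eq_one, ← (hDstep hr hrM).1, ← Subgroup.orderOf_mk d hd]
        exact orderOf_dvd_natCard _
      obtain ⟨m, hm, s, hs, hms⟩ := exists_conj_mem_sylow T hd.1 hdq
      rw [hTD, mem_subgroupOf, ← hms] at hs
      obtain ⟨hz, -⟩ := hgen _ hs (by rwa [Ne, conj_eq_one_iff])
      have hfix' : m * d * m⁻¹ ∈ MulAction.stabilizer G (m • ((σ : G) : G ⧸ M)) := by
        rw [MulAction.mem_stabilizer_iff, mul_smul, mul_smul, inv_smul_smul, ← hrc, (hfix.2 hd).2]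
      have hd₀fix : d₀ ∈ MulAction.stabilizer G (m • ((σ : G) : G ⧸ M)) :=
        zpowers_le.2 hfix' (hz.symm ▸ hd₀D)
      rcases hFix _ hd₀fix with e | e
      · exact absurd (by rw [← (hstab m).2 hm] at e; exact smul_left_cancel m e) hx
      · exact ⟨m⁻¹, M.inv_mem hm, by rw [← e, inv_smul_smul]⟩
  have hreach : ∀ a b : G ⧸ M, a ≠ b → ∃ g : G, g • o = a ∧ g • io = b := by
    intro a b hab
    obtain ⟨g, hg⟩ := MulAction.exists_smul_eq G o a
    obtain ⟨m, hm, hm'⟩ := horb (g⁻¹ • b) (fun e => hab (by rw [← hg, ← e, smul_inv_smul]))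
    exact ⟨g * m, by rw [mul_smul, (hstab m).2 hm, hg], by rw [mul_smul, hm', smul_inv_smul]⟩
  have hthree : ∀ g : G, ∀ a b x : G ⧸ M, a ≠ b → b ≠ x → a ≠ x → g • a = a → g • b = b →
      g • x = x → g = 1 := by
    intro g a b x hab hbx hax ha hb hx
    obtain ⟨k, hk1, hk2⟩ := hreach a b hab
    set g' := k⁻¹ * g * k with hg'
    have e1 : g' • o = o := by rw [hg', mul_smul, mul_smul, hk1, ha, ← hk1, inv_smul_smul]
    have e2 : g' • io = io := by rw [hg', mul_smul, mul_smul, hk2, hb, ← hk2, inv_smul_smul]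
    have e3 : g' • (k⁻¹ • x) = k⁻¹ • x := by rw [hg', mul_smul, mul_smul, smul_inv_smul, hx]
    by_contra hg1
    have hg'1 : g' ≠ 1 := fun e => hg1 (by
      calc g = k * g' * k⁻¹ := by rw [hg']; group
        _ = 1 := by rw [e]; group)
    obtain ⟨hz, -⟩ := hgen g' (hfix.1 ⟨e1, e2⟩) hg'1
    have hd₀fix : d₀ ∈ MulAction.stabilizer G (k⁻¹ • x) :=
      zpowers_le.2 (MulAction.mem_stabilizer_iff.2 e3) (hz.symm ▸ hd₀D)
    rcases hFix _ hd₀fix with e | e
    · exact hax (by rw [← hk1, ← e, smul_inv_smul])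
    · exact hbx (by rw [← hk2, ← e, smul_inv_smul])
  haveI hfaith : FaithfulSMul G (G ⧸ M) := by
    refine ⟨fun {g₁ g₂} hg => ?_⟩
    have hker : (MulAction.toPermHom G (G ⧸ M)).ker = ⊥ := by
      rcases (MulAction.toPermHom G (G ⧸ M)).normal_ker.eq_bot_or_eq_top with e | e
      · exact e
      · exfalso
        have hu' : MulAction.toPermHom G (G ⧸ M) i = 1 := MonoidHom.mem_ker.1 (e ▸ mem_top i)
        exact hiM ((hstab i).1 (Equiv.ext_iff.1 hu' o))
    exact (MonoidHom.ker_eq_bot_iff _).1 hker (Equiv.ext hg)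
  have hZ : Cfsg.IsZassenhausGroup G (G ⧸ M) := by
    refine ⟨hfaith, MulAction.is_two_pretransitive_iff.2 fun {a b a' b'} hab hab' => ?_, hthree,
      ⟨d₀, hd₀1, o, io, hione.symm, hdo.1, hdo.2⟩, fun N hN htr => ?_⟩
    · obtain ⟨g, hg1, hg2⟩ := hreach a b hab
      obtain ⟨g', hg1', hg2'⟩ := hreach a' b' hab'
      exact ⟨g' * g⁻¹, by rw [mul_smul, ← hg1, inv_smul_smul, hg1'],
        by rw [mul_smul, ← hg2, inv_smul_smul, hg2']⟩
    · refine ⟨o, fun e => ?_⟩
      rcases hN.eq_bot_or_eq_top with rfl | rfl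
      · obtain ⟨⟨g, hg⟩, hgu⟩ := htr.exists_smul_eq o io
        have hg1 : g = 1 := Subgroup.mem_bot.1 hg
        change g • o = _ at hgu
        rw [hg1, one_smul] at hgu
        exact hione hgu.symm
      · have hm : (⟨d₀, mem_top d₀⟩ : (⊤ : Subgroup G)) ∈
            MulAction.stabilizer (⊤ : Subgroup G) o := hdo.1
        have hm' := Subgroup.mem_bot.1 ((SetLike.ext_iff.1 e _).1 hm)
        exact hd₀1 (congrArg Subtype.val hm')
  -- the degree
  haveI := Fintype.ofFinite (G ⧸ M)
  have hcount : (D.subgroupOf M).index = Nat.card {x : G ⧸ M // ¬ x = o} := by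
    refine index_eq_card_of_fibres _ (fun m : M => ⟨(m : G) • io, fun e =>
      hione (by rw [← (hstab m).2 m.2] at e; exact smul_left_cancel (m : G) e)⟩) ?_ ?_
    · rintro ⟨x, hx⟩
      obtain ⟨m, hm, rfl⟩ := horb x hx
      exact ⟨⟨m, hm⟩, rfl⟩
    · rintro ⟨a, ha⟩ ⟨b, hb⟩
      rw [mem_subgroupOf, Subtype.mk.injEq]
      show a • io = b • io ↔ a⁻¹ * b ∈ D
      constructor
      · intro e
        exact hfix.1 ⟨(hstab _).2 (M.mul_mem (M.inv_mem ha) hb), by rw [mul_smul, ← e, inv_smul_smul]⟩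
      · intro e
        have h1 := (hfix.2 e).2
        rw [mul_smul, inv_smul_eq_iff] at h1
        exact h1.symm
  have hn : Fintype.card (G ⧸ M) - 1 = Nat.card F := by
    have h1 := (D.subgroupOf M).card_mul_index
    rw [Nat.card_congr (Subgroup.subgroupOfEquivOfLe inf_le_left).toEquiv, hDcard, hcount, hcardM] at h1
    have h2 := Nat.eq_of_mul_eq_mul_left h.prime_q.pos h1
    rw [Nat.card_eq_fintype_card, Fintype.card_subtype_compl, Fintype.card_subtype_eq] at h2
    exact h2
  have hpp := Cfsg.Agent.S0346.result hZ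
  rw [hn] at hpp
  obtain ⟨r, k, hr, -, hrn⟩ := hpp
  have hr' : r.Prime := Nat.prime_iff.2 hr
  obtain ⟨y, hy, hyS⟩ := h.exists_central_p hnr S
  have key : ∀ l : ℕ, l.Prime → l ∣ Nat.card F → l = r := fun l hl hd =>
    (Nat.prime_dvd_prime_iff_eq hl hr').1 (hl.dvd_of_dvd_pow (by rw [hrn]; exact hd : l ∣ r ^ k))
  have h2 := key 2 Nat.prime_two (dvd_trans (S.dvd_card_of_dvd_card h.two_dvd : 2 ∣ Nat.card (S : Subgroup G))
    (Subgroup.card_dvd_of_le fun a ha => mem_centralizer_iff.2 fun s hs => (h.comm_sylow S hs ha).eq))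
  have hp' := key p h.prime_p (by
    rw [← hy]
    exact Subgroup.orderOf_dvd_natCard F (mem_centralizer_iff.2 fun s hs => (hyS s hs).eq.symm))
  exact h.p_ne_two (hp'.trans h2.symm)

end

end CfsgLib.AutOrbits
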