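import Cfsg.Agent.Lib.AutOrbits.Basic
import Cfsg.Agent.Lib.Coprime.HyperplaneGeneration

/-!
# The mixed case with every element of order `p` inverted by an involution: the common part

For an involution `t` the elements of order dividing `p` commuting with `t` form a normal subgroup
`pPart p t` of the centraliser, and no element of order `p` centralises a Sylow 2-subgroup.
-/

set_option autoImplicit false
set_option linter.style.haveILetI false
set_option linter.unusedSectionVars false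

namespace CfsgLib.AutOrbits

open Subgroup

variable {G : Type*} [Group G] [Finite G] {p q : ℕ}

/-- Every element of order `p` is inverted by an involution. -/
def Real (G : Type*) [Group G] (p : ℕ) : Prop :=
  ∀ y : G, orderOf y = p → ∃ u : G, orderOf u = 2 ∧ u * y * u⁻¹ = y⁻¹

/-- `O_p(C(t))` as a subgroup of `G`. -/
def pPart (p : ℕ) (t : G) : Subgroup G :=
  (Cfsg.pCore p (centralizer ({t} : Set G))).map (centralizer ({t} : Set G)).subtype

theorem pPart_le (p : ℕ) (t : G) : pPart p t ≤ centralizer ({t} : Set G) := map_subtype_le _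

theorem isPGroup_pPart (p : ℕ) (t : G) : IsPGroup p (pPart p t) :=
  (PCore.pCore_isPGroup (p := p) (G := centralizer ({t} : Set G))).map _

/-- The normal Sylow 2-subgroup of a solvable group with trivial odd core and abelian Sylow. -/
theorem normal_sylow_of_pPrimeCore {H : Type*} [Group H] [Finite H] [Group.IsSolvable H]
    (T : Sylow 2 H) (hT : ∀ a ∈ (T : Subgroup H), ∀ b ∈ (T : Subgroup H), a * b = b * a)
    (hC : Cfsg.pPrimeCore 2 H = ⊥) : (T : Subgroup H).Normal := by
  haveI : Fact (Nat.Prime 2) := ⟨Nat.prime_two⟩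
  have h1 : (T : Subgroup H) ≤ centralizer (Cfsg.pCore 2 H : Set H) := fun a ha =>
    mem_centralizer_iff.2 fun b hb => hT b (PCore.pCore_le_sylow T hb) a ha
  rw [le_antisymm (h1.trans (InvChar.centralizer_pCore_le hC)) (PCore.pCore_le_sylow T)]
  exact Cfsg.pCore_normal 2 _

/-- A Sylow 2-subgroup of the normaliser of `⟨y⟩` does not centralise `y`. -/
theorem exists_not_commute (h : Orders2P G p q) (hr : Real G p) {y : G} (hy : orderOf y = p)
    (T : Sylow 2 (normalizer (zpowers y : Set G))) :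
    ∃ a : normalizer (zpowers y : Set G), a ∈ (T : Subgroup _) ∧ ¬ Commute y (a : G) := by
  by_contra! hall
  haveI : Fact (Nat.Prime 2) := ⟨Nat.prime_two⟩
  obtain ⟨u, hu, huy⟩ := hr y hy
  have huN : u ∈ normalizer (zpowers y : Set G) := by
    refine Coprime.mem_normalizer_of_forall_conj fun x hx => ?_
    obtain ⟨n, rfl⟩ := mem_zpowers_iff.1 hx
    rw [← conj_zpow, huy, inv_zpow]
    exact inv_mem (zpow_mem_zpowers y n)
  obtain ⟨m, hm, s, hs, hms⟩ := exists_conj_mem_sylow T huN (k := 1)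
    (by rw [pow_one, pow_two, sq_of_two hu])
  obtain ⟨n, hn⟩ := mem_zpowers_iff.1 (Coprime.mem_normalizer_conj hm (mem_zpowers y))
  have h1 : Commute (m * y * m⁻¹) (m * u * m⁻¹) := by
    rw [← hn, hms]; exact (hall s hs).zpow_left n
  have h2 := h1.map (MulAut.conj m⁻¹).toMonoidHom
  simp only [MulEquiv.coe_toMonoidHom, MulAut.conj_apply, inv_inv] at h2
  rw [show m⁻¹ * (m * y * m⁻¹) * m = y by group, show m⁻¹ * (m * u * m⁻¹) * m = u by group] at h2
  rw [← h2.eq, mul_inv_cancel_right] at huy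
  have hy2 : y ^ 2 = 1 := by rw [pow_two, mul_eq_one_iff_eq_inv, ← huy]
  have := orderOf_dvd_of_pow_eq_one hy2
  rw [hy] at this
  exact h.p_ne_two ((Nat.prime_dvd_prime_iff_eq h.prime_p Nat.prime_two).1 this)

/-- No element of order `p` centralises a Sylow 2-subgroup. -/
theorem Orders2P.eq_one_of_commute_sylow (h : Orders2P G p q) (hr : Real G p) (S : Sylow 2 G)
    {x : G} (hx : x ^ p = 1) (hS : ∀ s ∈ (S : Subgroup G), Commute x s) : x = 1 := by
  by_contra hx1
  have hSN : (S : Subgroup G) ≤ normalizer (zpowers x : Set G) := fun s hs => by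
    refine Coprime.mem_normalizer_of_forall_conj fun z hz => ?_
    obtain ⟨n, rfl⟩ := mem_zpowers_iff.1 hz
    rw [← ((hS s hs).zpow_left n).eq, mul_inv_cancel_right]
    exact zpow_mem_zpowers x n
  obtain ⟨T, hT⟩ := Orders2P.sylow_subgroupOf S hSN
  obtain ⟨a, ha, hna⟩ := exists_not_commute h hr (h.orderOf_p hx hx1) T
  exact hna (hS _ (by rwa [hT, mem_subgroupOf] at ha))

/-- An element of order `p` commuting with the involution `t` is inverted by an involution
commuting with `t`. -/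
theorem Orders2P.exists_inverting (h : Orders2P G p q) (hr : Real G p) {t y : G}
    (ht : orderOf t = 2) (hy : orderOf y = p) (hc : Commute y t) :
    ∃ u : G, orderOf u = 2 ∧ Commute u t ∧ u * y * u⁻¹ = y⁻¹ := by
  haveI : Fact (Nat.Prime 2) := ⟨Nat.prime_two⟩
  set N := normalizer (zpowers y : Set G) with hN
  have htN : t ∈ N := by
    refine Coprime.mem_normalizer_of_forall_conj fun z hz => ?_
    obtain ⟨n, rfl⟩ := mem_zpowers_iff.1 hz
    rw [← (hc.zpow_left n).eq, mul_inv_cancel_right]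
    exact zpow_mem_zpowers y n
  obtain ⟨T, hT⟩ := (isPGroup_zpowers_of_pow (p := 2) (g := (⟨t, htN⟩ : N)) (k := 1)
    (Subtype.ext (by simpa [pow_two] using sq_of_two ht))).exists_le_sylow
  obtain ⟨a, ha, hna⟩ := exists_not_commute h hr hy T
  have hTp : IsPGroup 2 ((T : Subgroup N).map N.subtype) := T.2.map _
  have ha2 : (a : G) * a = 1 := h.sq_of_mem hTp ⟨a, ha, rfl⟩
  have hau : orderOf (a : G) = 2 := two_of_sq ha2 fun e => hna (e ▸ Commute.one_right y)
  refine ⟨a, hau, h.comm_of_two hTp ⟨a, ha, rfl⟩ ⟨⟨t, htN⟩, hT (mem_zpowers _), rfl⟩, ?_⟩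
  -- `y (a y a⁻¹)` is centralised by `a`
  set w := y * ((a : G) * y * (a : G)⁻¹) with hw
  have hconj : (a : G) * y * (a : G)⁻¹ ∈ zpowers y := Coprime.mem_normalizer_conj a.2 (mem_zpowers y)
  have hwz : w ∈ zpowers y := (zpowers y).mul_mem (mem_zpowers y) hconj
  obtain ⟨n, hn⟩ := mem_zpowers_iff.1 hconj
  have hwc : Commute w (a : G) := by
    have e : (a : G) * w * (a : G)⁻¹ = w := by
      calc (a : G) * w * (a : G)⁻¹
          = ((a : G) * y * (a : G)⁻¹) * (((a : G) * a) * y * ((a : G) * a)⁻¹) := by rw [hw]; group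
        _ = w := by
          rw [ha2, one_mul, inv_one, mul_one, hw, ← hn]
          exact ((Commute.refl y).zpow_left n).eq
    exact (mul_inv_eq_iff_eq_mul.1 e).symm
  by_cases hw1 : w = 1
  · rw [hw] at hw1; exact eq_inv_of_mul_eq_one_right hw1
  · exfalso
    have h1 : zpowers w = zpowers y := by
      refine Subgroup.eq_of_le_of_card_ge (zpowers_le.2 hwz) ?_
      rw [Nat.card_zpowers, Nat.card_zpowers, hy, ((Nat.dvd_prime h.prime_p).1
        (hy ▸ orderOf_dvd_of_mem_zpowers hwz)).resolve_left fun e => hw1 (orderOf_eq_one_iff.1 e)]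
    have h2 : y ∈ zpowers w := h1.ge (mem_zpowers y)
    obtain ⟨n', hn'⟩ := mem_zpowers_iff.1 h2
    have h3 : Commute (w ^ n') (a : G) := hwc.zpow_left n'
    rw [hn'] at h3
    exact hna h3

theorem Orders2P.mem_pPart (h : Orders2P G p q) (hr : Real G p) {t : G} (ht : orderOf t = 2) {x : G} :
    x ∈ pPart p t ↔ Commute x t ∧ x ^ p = 1 := by
  classical
  refine ⟨fun hx => ⟨mem_centralizer_singleton_iff.1 (pPart_le p t hx),
    h.pow_p_of_mem (isPGroup_pPart p t) hx⟩, fun ⟨hc, hp⟩ => ?_⟩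
  by_cases hx1 : x = 1
  · rw [hx1]; exact one_mem _
  haveI : Fact (Nat.Prime 2) := ⟨Nat.prime_two⟩
  obtain ⟨u, hu, hut, hux⟩ := h.exists_inverting hr ht (h.orderOf_p hp hx1) hc
  set C := centralizer ({t} : Set G) with hC
  set x' : C := ⟨x, mem_centralizer_singleton_iff.2 hc.eq⟩ with hx'
  set u' : C := ⟨u, mem_centralizer_singleton_iff.2 hut.eq⟩ with hu'
  obtain ⟨T⟩ := (inferInstance : Nonempty (Sylow 2 C))
  have hn := h.normal_sup (fun c hc => h.not_q_of_two ht (mem_centralizer_singleton_iff.1 hc)) T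
  have hu2 : u' * u' = 1 := Subtype.ext (sq_of_two hu)
  have humem := mem_sup_of_sq T hn hu2
  have hmem : x' * x' ∈ (T : Subgroup C) ⊔ Cfsg.pCore p C := by
    have h1 := ((T : Subgroup C) ⊔ Cfsg.pCore p C).mul_mem (hn.conj_mem u' humem x') (inv_mem humem)
    have h2 : x' * u' * x'⁻¹ * u'⁻¹ = x' * x' := by
      have h3 : u' * x' * u'⁻¹ = x'⁻¹ := Subtype.ext hux
      rw [show x' * u' * x'⁻¹ * u'⁻¹ = x' * (u' * x' * u'⁻¹)⁻¹ by group, h3, inv_inv]
    rwa [h2] at h1
  have hxp : x' ^ p = 1 := Subtype.ext (by simpa using hp)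
  have h1 := mem_pCore_of_mem_sup h.prime_p h.p_ne_two
    (fun a ha => Subtype.ext (h.sq_of_mem (T.2.map C.subtype) ⟨a, ha, rfl⟩)) hmem
    (by rw [← pow_two, ← pow_mul, mul_comm, pow_mul, hxp, one_pow])
  obtain ⟨l, hl⟩ := h.prime_p.odd_of_ne_two h.p_ne_two
  refine ⟨x', ?_, rfl⟩
  have h2 : (x' * x') ^ (l + 1) = x' := by
    rw [← pow_two, ← pow_mul, show 2 * (l + 1) = p + 1 by omega, pow_succ, hxp, one_mul]
  rw [← h2]
  exact pow_mem h1 _

theorem Orders2P.mem_pPart_conj (h : Orders2P G p q) (hr : Real G p) {t : G} (ht : orderOf t = 2)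
    {x g : G} (hx : x ∈ pPart p t) : g * x * g⁻¹ ∈ pPart p (g * t * g⁻¹) := by
  obtain ⟨hc, hp⟩ := (h.mem_pPart hr ht).1 hx
  refine (h.mem_pPart hr (by rw [Involutions.orderOf_conj_eq, ht])).2 ⟨?_, by
    rw [conj_pow, hp]; group⟩
  simpa using hc.map (MulAut.conj g).toMonoidHom

theorem Orders2P.conj_mem_pPart (h : Orders2P G p q) (hr : Real G p) {t : G} (ht : orderOf t = 2)
    {x g : G} (hg : Commute g t) (hx : x ∈ pPart p t) : g * x * g⁻¹ ∈ pPart p t := by
  have h1 := h.mem_pPart_conj hr ht (g := g) hx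
  rwa [hg.eq, mul_inv_cancel_right] at h1

theorem Orders2P.exists_mem_pPart (h : Orders2P G p q) (hr : Real G p) {t : G} (ht : orderOf t = 2) :
    ∃ y ∈ pPart p t, orderOf y = p := by
  obtain ⟨y, hy, hc⟩ := h.exists_p_commute ht
  exact ⟨y, (h.mem_pPart hr ht).2 ⟨hc, hy ▸ pow_orderOf_eq_one y⟩, hy⟩

/-- The `p`-parts of the centralisers of involutions have the same order. -/
theorem Orders2P.card_pPart_eq (h : Orders2P G p q) (hr : Real G p) {t t' : G} (ht : orderOf t = 2)
    (ht' : orderOf t' = 2) : Nat.card (pPart p t) = Nat.card (pPart p t') := by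
  have key : ∀ a b : G, orderOf a = 2 → orderOf b = 2 →
      Nat.card (pPart p a) ≤ Nat.card (pPart p b) := by
    intro a b ha hb
    obtain ⟨φ, hφ⟩ := h.trans a b (ha.trans hb.symm)
    refine Nat.card_le_card_of_injective (fun x => (⟨φ x.1, (h.mem_pPart hr hb).2 ?_⟩ : pPart p b))
      fun x y e => Subtype.ext (φ.injective (congrArg Subtype.val e))
    obtain ⟨hc, hp⟩ := (h.mem_pPart hr ha).1 x.2
    exact ⟨hφ ▸ hc.map φ.toMonoidHom, by rw [← map_pow, hp, map_one]⟩
  exact le_antisymm (key t t' ht ht') (key t' t ht' ht)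

/-- `C(t) = S O_p(C(t))` for an involution `t` of `S`. -/
theorem Orders2P.centralizer_eq (h : Orders2P G p q) (hr : Real G p) (S : Sylow 2 G) {t : G}
    (htS : t ∈ (S : Subgroup G)) (ht : orderOf t = 2) :
    centralizer ({t} : Set G) = (S : Subgroup G) ⊔ pPart p t := by
  haveI : Fact p.Prime := ⟨h.prime_p⟩
  haveI : Fact (Nat.Prime 2) := ⟨Nat.prime_two⟩
  have hSC := h.le_centralizer_sylow S htS
  refine le_antisymm ?_ (sup_le hSC (pPart_le p t))
  rw [← Subgroup.subgroupOf_eq_top]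
  refine Fitting.eq_top_of_forall_sylow_le fun r hr' hrd => ?_
  have hfr : Fact r.Prime := ⟨hr'⟩
  rcases h.primes (fun c hc => h.not_q_of_two ht (mem_centralizer_singleton_iff.1 hc)) r hr' hrd
    with rfl | rfl
  · exact ⟨S.subtype hSC, fun a ha => mem_sup_left ha⟩
  · obtain ⟨P⟩ := (inferInstance : Nonempty (Sylow r (centralizer ({t} : Set G))))
    exact ⟨P, fun a ha => mem_sup_right ((h.mem_pPart hr ht).2
      ⟨mem_centralizer_singleton_iff.1 a.2, h.pow_p_of_mem (P.2.map _) ⟨a, ha, rfl⟩⟩)⟩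

theorem Orders2P.card_centralizer (h : Orders2P G p q) (hr : Real G p) (S : Sylow 2 G) {t : G}
    (htS : t ∈ (S : Subgroup G)) (ht : orderOf t = 2) :
    Nat.card (centralizer ({t} : Set G)) = Nat.card (S : Subgroup G) * Nat.card (pPart p t) := by
  haveI : Fact p.Prime := ⟨h.prime_p⟩
  haveI : Fact (Nat.Prime 2) := ⟨Nat.prime_two⟩
  rw [h.centralizer_eq hr S htS ht]
  refine Coprime.card_sup_of_disjoint (fun s hs => Coprime.mem_normalizer_of_forall_conj fun x hx =>
    h.conj_mem_pPart hr ht (h.comm_sylow S hs htS) hx) ?_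
  exact disjoint_iff.1 (IsPGroup.disjoint_of_ne p 2 h.p_ne_two _ _ (isPGroup_pPart p t) S.2)

/-- Generation by the centralisers of the involutions of `S`. -/
theorem Orders2P.le_of_fixed (h : Orders2P G p q) (S : Sylow 2 G) {X H : Subgroup G}
    (hodd : Odd (Nat.card X)) (hn : (S : Subgroup G) ≤ normalizer (X : Set G))
    (hfix : ∀ r ∈ (S : Subgroup G), orderOf r = 2 → ∀ x ∈ X, Commute x r → x ∈ H) : X ≤ H := by
  haveI : Fact (Nat.Prime 2) := ⟨Nat.prime_two⟩
  have hA : Cfsg.IsElementaryAbelian 2 (S : Subgroup G) :=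
    ⟨⟨⟨fun a b => Subtype.ext (h.comm_sylow S a.2 b.2).eq⟩⟩,
      fun a ha => by rw [pow_two]; exact h.sq_of_mem S.2 ha⟩
  rw [← Coprime39.eq_hyperCent (p := 2) hA (S.ne_bot_of_dvd_card h.two_dvd)
    (Nat.coprime_two_right.2 hodd) hn]
  refine iSup_le fun B x hx => ?_
  obtain ⟨hxX, hxB⟩ := mem_inf.1 hx
  have hBne : (B : Subgroup G) ≠ ⊥ := by
    intro e
    have h1 := B.2.2
    rw [e, Subgroup.relIndex_bot_left] at h1
    have := h.four_le S
    omega
  obtain ⟨r, hr, hr1⟩ := (B : Subgroup G).bot_or_exists_ne_one.resolve_left hBne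
  exact hfix r (B.2.1 hr) (two_of_sq (h.sq_of_mem S.2 (B.2.1 hr)) hr1) x hxX
    (mem_centralizer_iff.1 hxB r hr).symm

/-- A subgroup of odd order normalised by `S` is a `p`-group. -/
theorem Orders2P.isPGroup_of_invariant (h : Orders2P G p q) (S : Sylow 2 G) {X : Subgroup G}
    (hodd : Odd (Nat.card X)) (hn : (S : Subgroup G) ≤ normalizer (X : Set G)) : IsPGroup p X := by
  haveI : Fact (Nat.Prime 2) := ⟨Nat.prime_two⟩
  haveI : Fact q.Prime := ⟨h.prime_q⟩
  obtain ⟨k, hk⟩ := S.2.exists_card_eq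
  obtain ⟨Q, hQ⟩ := Coprime.exists_invariant_sylow (S : Subgroup G) X hn
    (hk ▸ (Nat.coprime_two_left.2 hodd).pow_left k)
    (Or.inl (Group.isSolvable_of_comm fun a b => Subtype.ext (h.comm_sylow S a.2 b.2).eq)) q
  set Q' := (Q : Subgroup X).map X.subtype with hQ'
  have hbot : Q' ≤ ⊥ := by
    refine h.le_of_fixed S (hodd.of_dvd_nat (Subgroup.card_dvd_of_le (map_subtype_le _))) hQ
      fun r _ hr x hx hc => Subgroup.mem_bot.2 ?_
    by_contra hx1
    obtain ⟨k, hk⟩ := IsPGroup.iff_orderOf.1 (Q.2.map X.subtype) ⟨x, hx⟩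
    rw [Subgroup.orderOf_mk] at hk
    rcases k with _ | k
    · exact hx1 (orderOf_eq_one_iff.1 (by rw [hk, pow_zero]))
    · have hnq := h.not_q_of_two hr hc
      have hd := h.dvd_two_p hnq
      rw [hk] at hd
      exact h.not_q_dvd ((dvd_pow_self q k.succ_ne_zero).trans hd)
  refine h.isPGroup_of_odd (fun x hx hxq => ?_) hodd
  have hd : q ∣ Nat.card X := hxq ▸ Subgroup.orderOf_dvd_natCard X hx
  exact Q.ne_bot_of_dvd_card hd
    ((Subgroup.map_eq_bot_iff_of_injective _ X.subtype_injective).1 (le_bot_iff.1 hbot))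

end CfsgLib.AutOrbits
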